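import Cfsg.Agent.RankOne.Witt
import Cfsg.Agent.ThompsonFpf.Nilpotency
import Cfsg.Agent.Solvable.Nilpotent

/-!
The rank-one set-up of 2-rank at least two: inverted elements are fixed-point-free on `Q`, `Q` is nilpotent,
the involutions of `G_a` are central in `Q`, fusion in `C_D(t)`, real elements.
-/

set_option autoImplicit false
set_option linter.unusedSectionVars false
set_option linter.unusedVariables false
set_option linter.style.haveILetI false

namespace CfsgLib.RankOne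

variable {G Ω : Type*} [Group G] [Finite G] [MulAction G Ω] {a : Ω} {t : G} {Q : Subgroup G}
  (hS : Cfsg.IsRankOneSetup G Ω a t Q)

local notation "stD" => (MulAction.stabilizer G a ⊓ MulAction.stabilizer G (t • a))

include hS

/-- A non-trivial inverted element of `D` is fixed-point-free on `Q`. -/
theorem fpf_of_inverted {x : G} (hx : x ∈ Cfsg.invertedBy stD t) (hx1 : x ≠ 1) :
    Q ⊓ Subgroup.centralizer {x} = ⊥ := by
  obtain ⟨hxD, hxt⟩ := (mem_inverted_iff hS).1 hx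
  rw [eq_bot_iff]
  intro q hq
  obtain ⟨hqQ, hqx⟩ := Subgroup.mem_inf.1 hq
  rw [Subgroup.mem_centralizer_singleton_iff] at hqx
  by_contra hq1
  rw [Subgroup.mem_bot] at hq1
  have hxa : x • a = a := (Subgroup.mem_inf.1 hxD).1
  have hxta : x • t • a = t • a := (Subgroup.mem_inf.1 hxD).2
  have h3 : ∃ b c d : Ω, b ≠ c ∧ b ≠ d ∧ c ≠ d ∧
      ∀ z ∈ ({x} : Set G), z • b = b ∧ z • c = c ∧ z • d = d := by
    refine ⟨a, t • a, q • t • a, (ta_ne hS).symm, fun h => ?_, fun h => hq1 (eq_one_of_smul_ta hS hqQ h.symm),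
      ?_⟩
    · exact ta_ne hS ((smul_left_cancel_iff q).1 (h.symm.trans (Q_smul_a hS hqQ).symm))
    · intro z hz
      rw [Set.mem_singleton_iff] at hz
      subst hz
      exact ⟨hxa, hxta, by rw [← mul_smul, ← hqx, mul_smul, hxta]⟩
  obtain ⟨l, hl, hlt⟩ := exists_conj_centralizer_t hS (X := {x})
    (Set.singleton_subset_iff.2 hxD) h3
  have h := hlt x rfl
  obtain ⟨τ, hτ⟩ : ∃ τ, τ = t * l * t := ⟨_, rfl⟩
  have hτD : τ ∈ stD := hτ ▸ t_norm_D hS hl
  set g := τ⁻¹ * l with hgdef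
  have hg : g ∈ stD := mul_mem (inv_mem hτD) hl
  have hti := t_inv hS
  have h1 : l * x * l⁻¹ = τ * x⁻¹ * τ⁻¹ := by
    calc l * x * l⁻¹ = t * (l * x * l⁻¹ * t) := by rw [h, ← mul_assoc, hS.mul_self, one_mul]
      _ = t * l * (t * t) * x * (t * t) * l⁻¹ * t := by rw [hS.mul_self]; group
      _ = (t * l * t) * (t * x * t) * (t⁻¹ * l⁻¹ * t⁻¹) := by rw [hti]; group
      _ = (t * l * t) * (t * x * t) * (t * l * t)⁻¹ := by group
      _ = _ := by rw [hxt, ← hτ]
  have h2 : g * x * g⁻¹ = x⁻¹ := by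
    calc g * x * g⁻¹ = τ⁻¹ * (l * x * l⁻¹) * τ := by rw [hgdef]; group
      _ = x⁻¹ := by rw [h1]; group
  have h4 : g * g * x = x * (g * g) := by
    calc g * g * x = g * (g * x * g⁻¹) * g := by group
      _ = g * x⁻¹ * g := by rw [h2]
      _ = (g * x * g⁻¹)⁻¹ * (g * g) := by group
      _ = _ := by rw [h2, inv_inv]
  have h5 : g * x = x * g := commute_of_sq_commute (X := stD) hS.odd_card hg h4
  have h6 : x⁻¹ = x := by rw [← h2, h5, mul_inv_cancel_right]
  refine hx1 (sq_injOn (X := stD) hS.odd_card hxD (one_mem _) ?_)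
  rw [one_mul]
  nth_rewrite 1 [← h6]
  exact inv_mul_cancel x

/-- Two involutions fixing `a`, in 2-rank at least two. -/
theorem exists_two_involutions
    (h2 : ∃ x y : G, x ≠ 1 ∧ y ≠ 1 ∧ x ≠ y ∧ x * x = 1 ∧ y * y = 1 ∧ x * y = y * x) :
    ∃ x y : G, x ∈ Cfsg.involutionsIn (MulAction.stabilizer G a : Set G) ∧
      y ∈ Cfsg.involutionsIn (MulAction.stabilizer G a : Set G) ∧ x ≠ y := by
  obtain ⟨x, y, hx1, hy1, hne, hx2, hy2, hxy⟩ := h2
  obtain ⟨p, hp, huniq⟩ := existsUnique_fixed hS hx1 hx2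
  obtain ⟨g, hg⟩ := (pretransitive hS).exists_smul_eq p a
  have hyp : y • p = p := huniq _ (by show x • y • p = y • p; rw [← mul_smul, hxy, mul_smul, hp])
  have mk : ∀ z : G, z ≠ 1 → z * z = 1 → z • p = p →
      g * z * g⁻¹ ∈ Cfsg.involutionsIn (MulAction.stabilizer G a : Set G) := by
    intro z hz1 hz2 hzp
    refine ⟨?_, fun h => hz1 (by rwa [mul_inv_eq_one, mul_eq_left] at h), ?_⟩
    · show (g * z * g⁻¹) • a = a
      rw [← hg, mul_smul, mul_smul, inv_smul_smul, hzp]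
    · rw [show g * z * g⁻¹ * (g * z * g⁻¹) = g * (z * z) * g⁻¹ by group, hz2]; group
  exact ⟨_, _, mk x hx1 hx2 hp, mk y hy1 hy2 hyp, fun h =>
    hne (mul_left_cancel (mul_right_cancel h))⟩

theorem exists_inverted_ne_one
    (h2 : ∃ x y : G, x ≠ 1 ∧ y ≠ 1 ∧ x ≠ y ∧ x * x = 1 ∧ y * y = 1 ∧ x * y = y * x) :
    ∃ k ∈ Cfsg.invertedBy stD t, k ≠ 1 := by
  obtain ⟨x, y, hx, hy, hne⟩ := exists_two_involutions hS h2
  obtain ⟨k, hk, e⟩ := conj_inverted_surjective hS hx hy
  refine ⟨k, hk, fun h => hne ?_⟩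
  rw [← e, h, inv_one, one_mul, mul_one]

theorem inverted_pow {k : G} (hk : k ∈ Cfsg.invertedBy stD t) (i : ℕ) :
    k ^ i ∈ Cfsg.invertedBy stD t := by
  obtain ⟨hkD, hkt⟩ := (mem_inverted_iff hS).1 hk
  refine (mem_inverted_iff hS).2 ⟨pow_mem hkD i, ?_⟩
  have := conj_pow (a := t) (b := k) (i := i)
  rw [t_inv hS, hkt, inv_pow] at this
  exact this.symm

/-- `Q` is nilpotent. -/
theorem isNilpotent_Q
    (h2 : ∃ x y : G, x ≠ 1 ∧ y ≠ 1 ∧ x ≠ y ∧ x * x = 1 ∧ y * y = 1 ∧ x * y = y * x) :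
    Group.IsNilpotent Q := by
  obtain ⟨k, hk, hk1⟩ := exists_inverted_ne_one hS h2
  have ho : orderOf k ≠ 1 := fun h => hk1 (orderOf_eq_one_iff.1 h)
  obtain ⟨r, hr, hrd⟩ := Nat.exists_prime_and_dvd ho
  obtain ⟨m, hm⟩ := hrd
  haveI : Fact r.Prime := ⟨hr⟩
  have hkm : k ^ m ≠ 1 := by
    intro h
    have hm0 : 0 < m := Nat.pos_of_ne_zero fun h0 => by
      rw [h0, mul_zero] at hm; exact absurd hm (orderOf_pos k).ne'
    have := Nat.le_of_dvd hm0 (orderOf_dvd_of_pow_eq_one h)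
    rw [hm] at this
    have := hr.two_le
    nlinarith
  have hkD : k ^ m ∈ stD := ((mem_inverted_iff hS).1 (inverted_pow hS hk m)).1
  refine ThompsonFpf.isNilpotent_of_conj (p := r) Q (k ^ m) ?_ ?_
    (fpf_of_inverted hS (inverted_pow hS hk m) hkm)
  · rw [Subgroup.mem_normalizer_iff]
    refine fun x => ⟨fun hx => D_norm_Q hS hkD hx, fun hx => ?_⟩
    have := D_norm_Q hS (inv_mem hkD) hx
    rwa [show (k ^ m)⁻¹ * (k ^ m * x * (k ^ m)⁻¹) * (k ^ m)⁻¹⁻¹ = x by group] at this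
  · rw [← pow_mul, mul_comm, ← hm, pow_orderOf_eq_one]

/-- The involutions of `G_a` are central in `Q`. -/
theorem involution_central
    (h2 : ∃ x y : G, x ≠ 1 ∧ y ≠ 1 ∧ x ≠ y ∧ x * x = 1 ∧ y * y = 1 ∧ x * y = y * x)
    {s : G} (hs : s ∈ Cfsg.involutionsIn (MulAction.stabilizer G a : Set G)) :
    s ∈ Q ∧ ∀ x ∈ Q, s * x = x * s := by
  haveI := isNilpotent_Q hS h2
  haveI : Fact (Nat.Prime 2) := ⟨Nat.prime_two⟩
  let P : Sylow 2 Q := default
  haveI : (P : Subgroup Q).Normal := inferInstance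
  have hP : (P : Subgroup Q) ≠ ⊥ := P.ne_bot_of_dvd_card (even_iff_two_dvd.1 hS.even_card)
  have hne := Solvable.inf_center_ne_bot (N := (P : Subgroup Q)) hP
  obtain ⟨⟨w, hw⟩, hw2⟩ := exists_prime_orderOf_dvd_card' 2
    (G := ↥((P : Subgroup Q) ⊓ Subgroup.center Q))
    ((P.isPGroup'.to_le inf_le_left).card_eq_or_dvd.resolve_left fun h =>
      hne (Subgroup.eq_bot_of_card_eq _ h))
  rw [Subgroup.orderOf_mk, ← Subgroup.orderOf_coe] at hw2
  have hz : (w : G) ∈ Cfsg.involutionsIn (MulAction.stabilizer G a : Set G) := by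
    refine ⟨hS.le w.2, fun h => by rw [h, orderOf_one] at hw2; omega, ?_⟩
    rw [← pow_two, ← hw2, pow_orderOf_eq_one]
  have hzc : ∀ x ∈ Q, (w : G) * x = x * w := fun x hx =>
    (congrArg Subtype.val (Subgroup.mem_center_iff.1 (Subgroup.mem_inf.1 hw).2 ⟨x, hx⟩)).symm
  obtain ⟨k, hk, rfl⟩ := conj_inverted_surjective hS hz hs
  have hkD := ((mem_inverted_iff hS).1 hk).1
  refine ⟨mem_Q_of_sq_eq_one hS hs.1 hs.2.2, fun x hx => ?_⟩
  have hx' : k * x * k⁻¹ ∈ Q := D_norm_Q hS hkD hx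
  calc k⁻¹ * w * k * x = k⁻¹ * (w * (k * x * k⁻¹)) * k := by group
    _ = k⁻¹ * (k * x * k⁻¹ * w) * k := by rw [hzc _ hx']
    _ = _ := by group

/-- Two involutions with a common fixed point commute. -/
theorem commute_of_common_fixed
    (h2 : ∃ x y : G, x ≠ 1 ∧ y ≠ 1 ∧ x ≠ y ∧ x * x = 1 ∧ y * y = 1 ∧ x * y = y * x)
    {u v : G} (hu1 : u ≠ 1) (hu2 : u * u = 1) (hv1 : v ≠ 1) (hv2 : v * v = 1) {p : Ω}
    (hu : u • p = p) (hv : v • p = p) : u * v = v * u := by
  obtain ⟨g, hg⟩ := (pretransitive hS).exists_smul_eq p a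
  have mk : ∀ z : G, z ≠ 1 → z * z = 1 → z • p = p →
      g * z * g⁻¹ ∈ Cfsg.involutionsIn (MulAction.stabilizer G a : Set G) := by
    intro z hz1 hz2 hzp
    refine ⟨?_, fun h => hz1 (by rwa [mul_inv_eq_one, mul_eq_left] at h), ?_⟩
    · show (g * z * g⁻¹) • a = a
      rw [← hg, mul_smul, mul_smul, inv_smul_smul, hzp]
    · rw [show g * z * g⁻¹ * (g * z * g⁻¹) = g * (z * z) * g⁻¹ by group, hz2]; group
  have h := (involution_central hS h2 (mk u hu1 hu2 hu)).2 _
    (involution_central hS h2 (mk v hv1 hv2 hv)).1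
  calc u * v = g⁻¹ * (g * u * g⁻¹ * (g * v * g⁻¹)) * g := by group
    _ = g⁻¹ * (g * v * g⁻¹ * (g * u * g⁻¹)) * g := by rw [h]
    _ = _ := by group

/-- Subsets of `C_D(t)` fused in `G` are fused in `C_D(t)`. -/
theorem fusion_V {X : Set G} (hX : X ⊆ ((stD ⊓ Subgroup.centralizer {t} : Subgroup G) : Set G)) (g : G)
    (hY : (fun x => g * x * g⁻¹) '' X ⊆ ((stD ⊓ Subgroup.centralizer {t} : Subgroup G) : Set G)) :
    ∃ v ∈ stD ⊓ Subgroup.centralizer {t},
      (fun x => v * x * v⁻¹) '' X = (fun x => g * x * g⁻¹) '' X := by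
  obtain ⟨c, hc, huniq⟩ := existsUnique_fixed hS hS.ne_one hS.mul_self
  have hca : c ≠ a := fun h => hS.not_mem (h ▸ hc)
  have hct : c ≠ t • a := fun h => by
    apply ta_ne hS
    have h' : t • t • a = t • a := by rw [← h]; exact hc
    exact h'.symm.trans (t_ta hS)
  have hV : ∀ y ∈ ((stD ⊓ Subgroup.centralizer {t} : Subgroup G) : Set G),
      y • a = a ∧ y • t • a = t • a ∧ y • c = c := by
    intro y hy
    obtain ⟨hyD, hyt⟩ := Subgroup.mem_inf.1 hy
    rw [Subgroup.mem_centralizer_singleton_iff] at hyt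
    exact ⟨(Subgroup.mem_inf.1 hyD).1, (Subgroup.mem_inf.1 hyD).2,
      huniq _ (by show t • y • c = y • c; rw [← mul_smul, ← hyt, mul_smul, hc])⟩
  set Y := (fun x => g * x * g⁻¹) '' X
  have hfix : ∀ y ∈ Y, y • g • a = g • a ∧ y • g • t • a = g • t • a ∧ y • a = a ∧ y • t • a = t • a := by
    rintro _ ⟨x, hx, rfl⟩
    obtain ⟨h1, h2, -⟩ := hV x (hX hx)
    obtain ⟨h3, h4, -⟩ := hV _ (hY ⟨x, hx, rfl⟩)
    exact ⟨by simp only [mul_smul, inv_smul_smul, h1], by simp only [mul_smul, inv_smul_smul, h2], h3, h4⟩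
  obtain ⟨k, hk, hka, hkt⟩ := centralizer_two_transitive hS (X := Y)
    (fun y hy => (Subgroup.mem_inf.1 (hY hy)).1)
    ⟨a, t • a, c, (ta_ne hS).symm, hca.symm, hct.symm, fun y hy => hV y (hY hy)⟩
    hfix (fun h => ta_ne hS ((smul_left_cancel_iff g).1 h).symm) (ta_ne hS).symm
  set d := k * g with hddef
  have hd : d ∈ stD := Subgroup.mem_inf.2 ⟨by rw [MulAction.mem_stabilizer_iff, mul_smul, hka],
    by rw [MulAction.mem_stabilizer_iff, mul_smul, hkt]⟩
  obtain ⟨y, hy, z, hz, hyt, hzt, hyz⟩ := exists_decomp (X := stD) hS.mul_self hS.odd_card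
    (fun x hx => t_norm_D hS hx) hd
  have hyti : t * y⁻¹ = y⁻¹ * t := (Commute.inv_right (show Commute t y from hyt)).eq
  refine ⟨y, Subgroup.mem_inf.2 ⟨hy, Subgroup.mem_centralizer_singleton_iff.2 hyt.symm⟩, ?_⟩
  refine Set.image_congr fun x hx => ?_
  have hxt : x * t = t * x :=
    Subgroup.mem_centralizer_singleton_iff.1 (Subgroup.mem_inf.1 (hX hx)).2
  have hw : g * x * g⁻¹ * t = t * (g * x * g⁻¹) :=
    Subgroup.mem_centralizer_singleton_iff.1 (Subgroup.mem_inf.1 (hY ⟨x, hx, rfl⟩)).2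
  have hdx : d * x * d⁻¹ = g * x * g⁻¹ := by
    have h : g * x * g⁻¹ * k = k * (g * x * g⁻¹) := Subgroup.mem_centralizer_iff.1 hk _ ⟨x, hx, rfl⟩
    calc d * x * d⁻¹ = k * (g * x * g⁻¹) * k⁻¹ := by rw [hddef]; group
      _ = g * x * g⁻¹ := by rw [← h, mul_inv_cancel_right]
  have hzx : z * x * z⁻¹ = y⁻¹ * (g * x * g⁻¹) * y := by rw [← hdx, hyz]; group
  have htzx : t * (z * x * z⁻¹) * t = z * x * z⁻¹ := by
    rw [hzx]
    calc t * (y⁻¹ * (g * x * g⁻¹) * y) * t
        = (t * y⁻¹) * (g * x * g⁻¹) * (y * t) := by group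
      _ = y⁻¹ * (t * (g * x * g⁻¹)) * (t * y) := by rw [hyti, ← hyt]; group
      _ = y⁻¹ * (g * x * g⁻¹) * (t * t) * y := by rw [← hw]; group
      _ = _ := by rw [hS.mul_self, mul_one]
  have hzi : t * z⁻¹ * t = z := by
    have h := congrArg (·⁻¹) hzt
    simp only [mul_inv_rev, inv_inv, t_inv hS] at h
    rw [mul_assoc]; exact h
  have h1 : z * z * x = x * (z * z) := by
    have e : z⁻¹ * x * z = z * x * z⁻¹ := by
      calc z⁻¹ * x * z = (t * z * t) * x * (t * z⁻¹ * t) := by rw [hzt, hzi]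
        _ = t * z * (t * x * t) * z⁻¹ * t := by group
        _ = t * z * (x * (t * t)) * z⁻¹ * t := by rw [← hxt]; group
        _ = t * (z * x * z⁻¹) * t := by rw [hS.mul_self]; group
        _ = _ := htzx
    calc z * z * x = z * (z * x * z⁻¹) * z := by group
      _ = z * (z⁻¹ * x * z) * z := by rw [e]
      _ = _ := by group
  have h2 : z * x = x * z := commute_of_sq_commute (X := stD) hS.odd_card hz h1
  show y * x * y⁻¹ = g * x * g⁻¹
  rw [← hdx, hyz]
  calc y * x * y⁻¹ = y * (x * z) * z⁻¹ * y⁻¹ := by group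
    _ = _ := by rw [← h2]; group

/-- Real elements are conjugate into `involutions * t` and have centralisers of odd order. -/
theorem real_elements
    (h2 : ∃ x y : G, x ≠ 1 ∧ y ≠ 1 ∧ x ≠ y ∧ x * x = 1 ∧ y * y = 1 ∧ x * y = y * x)
    {u v : G} (hu1 : u ≠ 1) (hu2 : u * u = 1) (hv1 : v ≠ 1) (hv2 : v * v = 1)
    (hx : (u * v) * (u * v) ≠ 1) :
    (∃ g : G, ∃ u' ∈ Cfsg.involutionsIn (MulAction.stabilizer G a : Set G), g * (u * v) * g⁻¹ = u' * t) ∧
      Odd (Nat.card ↥(Subgroup.centralizer {u * v})) := by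
  obtain ⟨p, hp, hpu⟩ := existsUnique_fixed hS hu1 hu2
  obtain ⟨q, hq, hqu⟩ := existsUnique_fixed hS hv1 hv2
  have hpq : p ≠ q := by
    rintro rfl
    have hc := commute_of_common_fixed hS h2 hu1 hu2 hv1 hv2 hp hq
    exact hx (by rw [show u * v * (u * v) = u * (v * u) * v by group, ← hc,
      show u * (u * v) * v = (u * u) * (v * v) by group, hu2, hv2, one_mul])
  refine ⟨?_, ?_⟩
  · obtain ⟨c, hc, -⟩ := existsUnique_fixed hS hS.ne_one hS.mul_self
    have hca : c ≠ a := fun h => hS.not_mem (h ▸ hc)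
    obtain ⟨g, hgp, hgq⟩ := MulAction.is_two_pretransitive_iff.1 hS.two_transitive hpq hca.symm
    obtain ⟨h, hha, hht⟩ := MulAction.is_two_pretransitive_iff.1 hS.two_transitive (ta_ne hS).symm hca
    have mk : ∀ (e z : G), z ≠ 1 → z * z = 1 → e * z * e⁻¹ ≠ 1 ∧ e * z * e⁻¹ * (e * z * e⁻¹) = 1 := by
      intro e z hz1 hz2
      refine ⟨fun h => hz1 (by rwa [mul_inv_eq_one, mul_eq_left] at h), ?_⟩
      rw [show e * z * e⁻¹ * (e * z * e⁻¹) = e * (z * z) * e⁻¹ by group, hz2]; group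
    obtain ⟨v', hv'⟩ : ∃ v', v' = g * v * g⁻¹ := ⟨_, rfl⟩
    have hv'c : v' • c = c := by rw [hv', ← hgq, mul_smul, mul_smul, inv_smul_smul, hq]
    have hmem : ∀ z : G, z ≠ 1 → z * z = 1 → z • c = c →
        h⁻¹ * z * h ∈ Cfsg.involutionsIn (MulAction.stabilizer G a : Set G) := by
      intro z hz1 hz2 hzc
      have h3 := mk h⁻¹ z hz1 hz2
      rw [inv_inv] at h3
      exact ⟨by show (h⁻¹ * z * h) • a = a; rw [mul_smul, mul_smul, hha, hzc, ← hha, inv_smul_smul],
        h3.1, h3.2⟩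
    obtain ⟨k, hk, hkeq⟩ := conj_inverted_surjective hS
      (hmem v' (hv' ▸ (mk g v hv1 hv2).1) (hv' ▸ (mk g v hv1 hv2).2) hv'c)
      (hmem t hS.ne_one hS.mul_self hc)
    have hkD := ((mem_inverted_iff hS).1 hk).1
    set e := h * k⁻¹ * h⁻¹ with hedef
    have hev : e * v' * e⁻¹ = t := by
      calc e * v' * e⁻¹ = h * (k⁻¹ * (h⁻¹ * v' * h) * k) * h⁻¹ := by rw [hedef]; group
        _ = t := by rw [hkeq]; group
    have hea : e • a = a := by
      conv_lhs => rw [← hht]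
      rw [mul_smul, inv_smul_smul, mul_smul,
        (MulAction.mem_stabilizer_iff.1 (Subgroup.mem_inf.1 (inv_mem hkD)).2), hht]
    refine ⟨e * g, (e * g) * u * (e * g)⁻¹, ⟨?_, (mk _ u hu1 hu2).1, (mk _ u hu1 hu2).2⟩, ?_⟩
    · show ((e * g) * u * (e * g)⁻¹) • a = a
      have h1 : (e * g) • p = a := by rw [mul_smul, hgp, hea]
      rw [← h1, mul_smul, mul_smul, inv_smul_smul, hp]
    · calc e * g * (u * v) * (e * g)⁻¹ = (e * g * u * (e * g)⁻¹) * (e * (g * v * g⁻¹) * e⁻¹) := by group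
        _ = _ := by rw [← hv', hev]
  · by_contra hodd
    rw [Nat.not_odd_iff_even] at hodd
    haveI : Fact (Nat.Prime 2) := ⟨Nat.prime_two⟩
    classical
    set C := Subgroup.centralizer ({u * v} : Set G) with hC
    letI : Fintype C := Fintype.ofFinite _
    have hui : u⁻¹ = u := inv_eq_of_mul_eq_one_right hu2
    -- the square roots of `1` in `C`
    let σ : Equiv.Perm C := Equiv.inv C
    have hσ : σ ^ 2 ^ 1 = 1 := by
      ext w
      simp [σ, pow_two, Equiv.Perm.mul_apply]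
    have h1 : 2 ∣ Fintype.card C := by rwa [← Nat.card_eq_fintype_card, ← even_iff_two_dvd]
    let S := {w : C // w * w = 1}
    have hSeven : 2 ∣ Fintype.card S := by
      have h2 := Equiv.Perm.card_compl_support_modEq hσ
      have h3 : σ.supportᶜ.card = Fintype.card S := by
        rw [Fintype.card_subtype]
        congr 1
        ext w
        simp [σ, Equiv.Perm.mem_support, mul_eq_one_iff_eq_inv, eq_comm]
      rw [h3] at h2
      exact Nat.modEq_zero_iff_dvd.1 (h2.trans (Nat.modEq_zero_iff_dvd.2 h1))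
    have hconj : ∀ w : C, u * (w : G) * u ∈ C := by
      intro w
      have h3 : (w : G) * (u * v) = u * v * w := Subgroup.mem_centralizer_singleton_iff.1 w.2
      have h4 : (w : G) * (u * v)⁻¹ = (u * v)⁻¹ * w := (Commute.inv_right h3).eq
      refine Subgroup.mem_centralizer_singleton_iff.2 ?_
      rw [mul_inv_rev, inv_eq_of_mul_eq_one_right hv2, hui] at h4
      calc u * (w : G) * u * (u * v) = u * (w : G) * (u * u) * v := by group
        _ = u * ((w : G) * (v * u)) * u := by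
            rw [hu2, show u * ((w : G) * (v * u)) * u = u * (w : G) * v * (u * u) by group, hu2]; group
        _ = u * (v * u * (w : G)) * u := by rw [h4]
        _ = _ := by group
    let τ : Equiv.Perm S :=
      { toFun := fun w => ⟨⟨u * (w.1 : G) * u, hconj w.1⟩, Subtype.ext (by
          show u * (w.1 : G) * u * (u * (w.1 : G) * u) = 1
          rw [show u * (w.1 : G) * u * (u * (w.1 : G) * u) = u * (w.1 : G) * (u * u) * (w.1 : G) * u by
            group, hu2, mul_one, mul_assoc u, show (w.1 : G) * (w.1 : G) = 1 from congrArg Subtype.val w.2,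
            mul_one, hu2])⟩
        invFun := fun w => ⟨⟨u * (w.1 : G) * u, hconj w.1⟩, Subtype.ext (by
          show u * (w.1 : G) * u * (u * (w.1 : G) * u) = 1
          rw [show u * (w.1 : G) * u * (u * (w.1 : G) * u) = u * (w.1 : G) * (u * u) * (w.1 : G) * u by
            group, hu2, mul_one, mul_assoc u, show (w.1 : G) * (w.1 : G) = 1 from congrArg Subtype.val w.2,
            mul_one, hu2])⟩
        left_inv := fun w => Subtype.ext (Subtype.ext (by
          show u * (u * (w.1 : G) * u) * u = (w.1 : G)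
          rw [show u * (u * (w.1 : G) * u) * u = (u * u) * (w.1 : G) * (u * u) by group, hu2, one_mul, mul_one]))
        right_inv := fun w => Subtype.ext (Subtype.ext (by
          show u * (u * (w.1 : G) * u) * u = (w.1 : G)
          rw [show u * (u * (w.1 : G) * u) * u = (u * u) * (w.1 : G) * (u * u) by group, hu2, one_mul, mul_one])) }
    have hτ : τ ^ 2 ^ 1 = 1 := by
      refine Equiv.ext fun w => ?_
      rw [pow_one, pow_two, Equiv.Perm.mul_apply, Equiv.Perm.one_apply]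
      exact τ.left_inv w
    have hτ1 : τ ⟨1, one_mul 1⟩ = ⟨1, one_mul 1⟩ := Subtype.ext (Subtype.ext (by
      show u * ((1 : C) : G) * u = ((1 : C) : G)
      rw [Subgroup.coe_one, mul_one, hu2]))
    obtain ⟨⟨⟨w, hwC⟩, hww⟩, hwfix, hwne⟩ := Equiv.Perm.exists_fixed_point_of_prime' hSeven hτ hτ1
    have hww' : w * w = 1 := congrArg Subtype.val hww
    have hw1 : w ≠ 1 := fun h => hwne (Subtype.ext (Subtype.ext h))
    have hwu : u * w * u = w := congrArg (fun z : S => (z.1 : G)) hwfix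
    have hwu' : u * w = w * u := by
      calc u * w = u * w * u * u := by rw [mul_assoc (u * w), hu2, mul_one]
        _ = w * u := by rw [hwu]
    have hwx : w * (u * v) = u * v * w := Subgroup.mem_centralizer_singleton_iff.1 hwC
    have hwv : v * w = w * v := by
      calc v * w = u * (u * v * w) := by rw [← mul_assoc, ← mul_assoc, hu2, one_mul]
        _ = u * (w * (u * v)) := by rw [hwx]
        _ = (u * w) * u * v := by group
        _ = w * v := by rw [hwu', mul_assoc w u u, hu2, mul_one]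
    obtain ⟨r, hr, hruniq⟩ := existsUnique_fixed hS hw1 hww'
    have e1 : u • r = r := hruniq _ (by show w • u • r = u • r; rw [← mul_smul, ← hwu', mul_smul, hr])
    have e2 : v • r = r := hruniq _ (by show w • v • r = v • r; rw [← mul_smul, ← hwv, mul_smul, hr])
    exact hpq ((hpu r e1).symm.trans (hqu r e2))

end CfsgLib.RankOne
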