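import Cfsg.Agent.RankOne.Deep
import Cfsg.Agent.Zassenhaus.Basic
import Mathlib

/-!
Rank-one set-up with abelian 2-group `Q` and `t` inverting the two-point stabiliser: in the structure
equation `t s t = r⁻¹ t r` the element `r` is the involution `s`.
-/

set_option autoImplicit false
set_option linter.unusedSectionVars false
set_option linter.style.haveILetI false

namespace CfsgLib.RankOne

variable {G Ω : Type*} [Group G] [Finite G] [MulAction G Ω] {a : Ω} {t : G} {Q : Subgroup G}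
  (hS : Cfsg.IsRankOneSetup G Ω a t Q)

local notation "stD" => (MulAction.stabilizer G a ⊓ MulAction.stabilizer G (t • a))

include hS

/-- Conjugation by a member of the two-point stabiliser, on `Q`. -/
def conjQ (d : ↥stD) : Q →* Q where
  toFun x := ⟨(d : G) * x * (d : G)⁻¹, D_norm_Q hS d.2 x.2⟩
  map_one' := Subtype.ext (by simp)
  map_mul' x y := Subtype.ext (by simp [mul_assoc])

theorem structure_sq_eq_one (hQ2 : IsPGroup 2 Q) (hab : ∀ x ∈ Q, ∀ y ∈ Q, x * y = y * x)
    (hinv : ∀ d ∈ stD, t * d * t = d⁻¹) {j : G} (hj : j ∈ stD) (hj1 : j ≠ 1) {s r : G}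
    (hs : s ∈ Cfsg.involutionsIn (MulAction.stabilizer G a : Set G)) (hr : r ∈ Q)
    (e : t * s * t = r⁻¹ * t * r) : r * r = 1 := by
  haveI : Fact (Nat.Prime 2) := ⟨Nat.prime_two⟩
  letI : CommGroup Q := { (inferInstance : Group Q) with
    mul_comm := fun x y => Subtype.ext (hab x x.2 y y.2) }
  set b := t • a with hb
  set c : ↥stD → Q →* Q := conjQ hS with hc
  have hc_apply : ∀ d x, ((c d x : Q) : G) = (d : G) * x * (d : G)⁻¹ := fun _ _ => rfl
  have hcmul : ∀ d d' x, c (d * d') x = c d (c d' x) := fun d d' x => Subtype.ext (by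
    simp only [hc_apply, Subgroup.coe_mul, mul_inv_rev, mul_assoc])
  have hc1 : ∀ x, c 1 x = x := fun x => Subtype.ext (by simp [hc_apply])
  have hDcomm : ∀ d d' : ↥stD, d * d' = d' * d := by
    intro d d'
    apply Subtype.ext
    have h1 := hinv _ (mul_mem d.2 d'.2)
    rw [show t * ((d : G) * d') * t = (t * d * t) * (t * d' * t) by
      rw [show t * (d : G) * t * (t * d' * t) = t * d * (t * t) * d' * t by group, hS.mul_self]
      group, hinv _ d.2, hinv _ d'.2] at h1
    show (d : G) * d' = d' * d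
    exact inv_injective (by rw [← h1, mul_inv_rev])
  have hfpf : ∀ (d : ↥stD) (x : Q), d ≠ 1 → c d x = x → x = 1 := by
    intro d x hd hx
    have hmem : (x : G) ∈ Q ⊓ Subgroup.centralizer {(d : G)} := Subgroup.mem_inf.2 ⟨x.2,
      Subgroup.mem_centralizer_singleton_iff.2
        (mul_inv_eq_iff_eq_mul.1 (congrArg Subtype.val hx)).symm⟩
    rw [fpf_of_inverted hS ((mem_inverted_iff hS).2 ⟨d.2, hinv _ d.2⟩) (fun h => hd (Subtype.ext h)),
      Subgroup.mem_bot] at hmem
    exact Subtype.ext hmem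
  set S : Q := ⟨s, mem_Q_of_sq_eq_one hS hs.1 hs.2.2⟩ with hSdef
  set R : Q := ⟨r, hr⟩ with hRdef
  have hS1 : S ≠ 1 := fun h => hs.2.1 (congrArg Subtype.val h)
  have hS2 : S * S = 1 := Subtype.ext hs.2.2
  by_contra hr2
  -- the map `t` on the points other than `a`, `t • a`
  have hP : ∀ {x y : Q}, (x : G) • b = (y : G) • b → x = y := fun {x y} h =>
    Subtype.ext (Q_smul_inj hS x.2 y.2 h)
  have scal : ∀ {x y : Q} (d : ↥stD), t • (x : G) • b = (y : G) • b →
      t • (c d x : G) • b = (c d⁻¹ y : G) • b := by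
    intro x y d h
    have hdb : (d : G)⁻¹ • b = b := inv_smul_eq_iff.2 (Subgroup.mem_inf.1 d.2).2.symm
    have htd : t * (d : G) = (d : G)⁻¹ * t := by
      rw [← hinv _ d.2, mul_assoc, hS.mul_self, mul_one]
    simp only [hc_apply, Subgroup.coe_inv, inv_inv, mul_smul, hdb]
    rw [← mul_smul, htd, mul_smul, h, (Subgroup.mem_inf.1 d.2).2]
  have step : ∀ {u u' α β x y : Q}, t * (u : G) * t = α * t * β → t • (u' : G) • b = (x : G) • b →
      t • ((β * x : Q) : G) • b = (y : G) • b →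
      t • ((u * u' : Q) : G) • b = ((α * y : Q) : G) • b := by
    intro u u' α β x y hu h1 h2
    simp only [Subgroup.coe_mul, mul_smul] at h2 ⊢
    calc t • (u : G) • (u' : G) • b = (t * u * t) • (t • (u' : G) • b) := by
          rw [mul_smul, mul_smul, ← mul_smul t t, hS.mul_self, one_smul]
      _ = _ := by rw [hu, h1, mul_smul, mul_smul, h2]
  have es : t * (S : G) * t = (R⁻¹ : Q) * t * (R : Q) := e
  have er : t * (R : G) * t = (R : Q) * t * (S : Q) := by
    show t * r * t = r * t * s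
    calc t * r * t = r * (r⁻¹ * t * r) * t := by group
      _ = r * (t * s * t) * t := by rw [e]
      _ = r * t * s * (t * t) := by group
      _ = r * t * s := by rw [hS.mul_self, mul_one]
  have er' : t * ((R⁻¹ : Q) : G) * t = (S : Q) * t * (R⁻¹ : Q) := by
    show t * r⁻¹ * t = s * t * r⁻¹
    have h := congrArg (·⁻¹) (show t * r * t = r * t * s from er)
    simp only [mul_inv_rev, t_inv hS, inv_eq_of_mul_eq_one_right hs.2.2] at h
    rw [mul_assoc, mul_assoc]
    exact h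
  have hfixa : ∀ x : Q, (x : G) • a = a := fun x => Q_smul_a hS x.2
  have base : ∀ {u α β : Q}, t * (u : G) * t = α * t * β → t • (u : G) • b = (α : G) • b := by
    intro u α β hu
    rw [hb, ← mul_smul, ← mul_smul, hu, mul_smul, mul_smul, hfixa]
  have bs := base es
  have br := base er
  have br' := base er'
  -- elements of the stabiliser
  set J : ↥stD := ⟨j, hj⟩
  have hJ1 : J ≠ 1 := fun h => hj1 (congrArg Subtype.val h)
  have hJX : ∀ x, c J (c J⁻¹ x) = x := fun x => by rw [← hcmul, mul_inv_cancel, hc1]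
  have hXJ : ∀ x, c J⁻¹ (c J x) = x := fun x => by rw [← hcmul, inv_mul_cancel, hc1]
  have hinvol : ∀ w : Q, w * w = 1 → w ≠ 1 → ∃ l : ↥stD, c l S = w := by
    intro w hw2 hw1
    obtain ⟨k, hk, hks⟩ := conj_inverted_surjective hS (s := s) hs (s' := (w : G))
      ⟨hS.le w.2, fun h => hw1 (Subtype.ext h), congrArg Subtype.val hw2⟩
    exact ⟨⟨k⁻¹, inv_mem ((mem_inverted_iff hS).1 hk).1⟩, Subtype.ext (by
      simp only [hc_apply, inv_inv]; exact hks)⟩
  obtain ⟨l, hl⟩ := hinvol (S * c J S) (by rw [mul_mul_mul_comm, hS2, ← map_mul, hS2, map_one, one_mul])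
    (fun h => hS1 (hfpf J S hJ1 (by
      rw [← inv_eq_of_mul_eq_one_right h, inv_eq_of_mul_eq_one_right hS2])))
  -- the cycle of length three
  set F : Q := c l⁻¹ R⁻¹ with hF
  have R0 : t • ((S * c J S : Q) : G) • b = (F : G) • b := by rw [← hl]; exact scal l bs
  have R1 := scal J (step er (scal J⁻¹ br') (by rw [inv_inv]; exact R0))
  rw [map_mul, hJX, mul_comm (c J R) R⁻¹] at R1
  have R2 := scal J (step er' (scal J⁻¹ br) (by rw [inv_inv]; exact R1))
  rw [map_mul, hJX, mul_comm (c J R⁻¹) R] at R2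
  have R3 := scal J (step es (scal J⁻¹ bs) (by rw [inv_inv]; exact R2))
  rw [map_mul, hJX, mul_comm (c J S) S] at R3
  have hcycle : F = c J⁻¹ (R⁻¹ * c J⁻¹ (S * c J⁻¹ (R * F))) := hP (R0.symm.trans R3)
  -- push the identity into the involutions
  obtain ⟨n, hn⟩ := IsPGroup.iff_orderOf.1 hQ2 R
  have hR2 : R * R ≠ 1 := fun h => hr2 (congrArg Subtype.val h)
  obtain ⟨i, rfl⟩ : ∃ i, n = i + 2 := by
    refine ⟨n - 2, ?_⟩
    rcases n with _ | _ | n
    · exfalso; rw [pow_zero, orderOf_eq_one_iff] at hn; exact hR2 (by rw [hn, one_mul])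
    · exfalso; apply hR2; rw [← pow_two]; exact orderOf_dvd_iff_pow_eq_one.1 (by rw [hn]; norm_num)
    · rfl
  set N := 2 ^ (i + 1) with hN
  set σ := R ^ N with hσ
  have hσ2 : σ * σ = 1 := by
    rw [hσ, hN, ← pow_add, ← two_mul, ← pow_succ', ← hn, pow_orderOf_eq_one]
  have hσ1 : σ ≠ 1 := by
    rw [hσ, Ne, ← orderOf_dvd_iff_pow_eq_one, hn, hN, Nat.pow_dvd_pow_iff_le_right (by norm_num)]
    omega
  have hσi : σ⁻¹ = σ := inv_eq_of_mul_eq_one_right hσ2
  have hSN : S ^ N = 1 := by rw [hN, pow_succ', pow_mul, pow_two, hS2, one_pow]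
  have hFN : F ^ N = c l⁻¹ σ := by rw [hF, ← map_pow, inv_pow, hσi]
  have h := congrArg (fun x : Q => x ^ N) hcycle
  simp only [← map_pow, mul_pow, inv_pow, hSN, one_mul, ← hσ, hσi, hFN] at h
  obtain ⟨g, hg⟩ := hinvol σ hσ2 hσ1
  have hlσ : c l σ = σ * c J σ := by
    rw [← hg, ← hcmul, hDcomm, hcmul, hl, map_mul, ← hcmul, hDcomm, hcmul]
  have hmove : ∀ x, c l (c J⁻¹ x) = c J⁻¹ (c l x) := fun x => by rw [← hcmul, hDcomm, hcmul]
  have hll : c l (c l⁻¹ σ) = σ := by rw [← hcmul, mul_inv_cancel, hc1]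
  have h' := congrArg (c l) h
  simp only [map_mul, hmove, hll, hlσ, hXJ] at h'
  apply hσ1
  refine hfpf J σ hJ1 ?_
  set x := c J⁻¹ σ with hx
  have hx2 : c J⁻¹ (c J⁻¹ x) * c J⁻¹ (c J⁻¹ x) = 1 := by
    rw [hx, ← map_mul, ← map_mul, ← map_mul, hσ2, map_one, map_one, map_one]
  rw [mul_comm x σ, mul_comm (c J⁻¹ (c J⁻¹ x)) (c J⁻¹ x), mul_assoc (c J⁻¹ x), hx2, mul_one] at h'
  have h2 : x * c J⁻¹ x = 1 := by
    calc x * c J⁻¹ x = σ * (σ * x * c J⁻¹ x) := by
          rw [mul_assoc σ, ← mul_assoc σ σ, hσ2, one_mul]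
      _ = σ * σ := by rw [← h']
      _ = 1 := hσ2
  have h3 := congrArg (c J) h2
  rw [map_mul, hJX, map_one, hx, hJX] at h3
  -- `σ * J⁻¹ σ = 1`
  have h4 := inv_eq_of_mul_eq_one_right h3
  rw [hσi] at h4
  calc c J σ = c J (c J⁻¹ σ) := by rw [← h4]
    _ = σ := hJX σ

end CfsgLib.RankOne
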