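import Cfsg.Prelude.Def_LieRecognition
import Mathlib

/-!
Elementary theory of `Cfsg.IsRankOneSetup G Ω a t Q` (Peterfalvi's set-up for Suzuki's theorem).

Main results: `regular_Q`, `exists_canonical`, `canonical_unique`, `mem_Q_of_sq_eq_one`, `fixed_eq_of_mem_Q`,
`odd_orderOf_mul`, `involutions_conj`, `exists_structure`, `structure_unique`, `centralizer_eq_of_structure`,
`card_inverted`, `conj_inverted_surjective`.
-/

set_option autoImplicit false
set_option linter.unusedSectionVars false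
set_option linter.unusedVariables false
set_option linter.unusedSimpArgs false
set_option linter.style.haveILetI false

namespace CfsgLib.RankOne

/-! ### An involution acting on a group of odd order -/

section OddAction

variable {M : Type*} [Group M] [Finite M] {t : M} {X : Subgroup M}

/-- Elements inverted by `t` have unique square roots among themselves, inside a group of odd order. -/
theorem exists_sqrt (hodd : Odd (Nat.card X)) {w : M} (hw : w ∈ X) :
    ∃ k : ℕ, (w ^ k) * (w ^ k) = w := by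
  obtain ⟨j, hj⟩ := hodd
  refine ⟨j + 1, ?_⟩
  have h1 : w ^ Nat.card X = 1 := by
    have := pow_card_eq_one' (G := X) (x := ⟨w, hw⟩)
    exact congrArg Subtype.val this
  rw [← pow_add, show j + 1 + (j + 1) = Nat.card X + 1 by omega, pow_succ, h1, one_mul]

theorem sq_injOn (hodd : Odd (Nat.card X)) {x y : M} (hx : x ∈ X) (hy : y ∈ X)
    (h : x * x = y * y) : x = y := by
  obtain ⟨j, hj⟩ := hodd
  have h1 : ∀ z ∈ X, (z * z) ^ (j + 1) = z := by
    intro z hz
    have h1 : z ^ Nat.card X = 1 :=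
      congrArg Subtype.val (pow_card_eq_one' (G := X) (x := ⟨z, hz⟩))
    rw [← pow_two, ← pow_mul, show 2 * (j + 1) = Nat.card X + 1 by omega, pow_succ, h1, one_mul]
  rw [← h1 x hx, h, h1 y hy]

theorem commute_of_sq_commute (hodd : Odd (Nat.card X)) {x z : M} (hx : x ∈ X)
    (h : x * x * z = z * (x * x)) : x * z = z * x := by
  obtain ⟨j, hj⟩ := hodd
  have h1 : x ^ Nat.card X = 1 :=
    congrArg Subtype.val (pow_card_eq_one' (G := X) (x := ⟨x, hx⟩))
  have h2 : (x * x) ^ (j + 1) = x := by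
    rw [← pow_two, ← pow_mul, show 2 * (j + 1) = Nat.card X + 1 by omega, pow_succ, h1, one_mul]
  have := (Commute.pow_left (show Commute (x * x) z from h) (j + 1))
  rwa [h2] at this

/-- Decomposition of an element of an odd order group under an involution. -/
theorem exists_decomp (ht : t * t = 1) (hodd : Odd (Nat.card X)) (hnorm : ∀ x ∈ X, t * x * t ∈ X)
    {x : M} (hx : x ∈ X) :
    ∃ y ∈ X, ∃ z ∈ X, t * y = y * t ∧ t * z * t = z⁻¹ ∧ x = y * z := by
  set w := (t * x * t)⁻¹ * x with hw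
  have hwX : w ∈ X := mul_mem (inv_mem (hnorm x hx)) hx
  have htwt : t * w * t = w⁻¹ := by
    have hti : t⁻¹ = t := inv_eq_of_mul_eq_one_right ht
    rw [hw]
    simp only [mul_inv_rev, inv_inv, hti, mul_assoc]
    rw [← mul_assoc t t, ht, one_mul]
  obtain ⟨k, hk⟩ := exists_sqrt hodd hwX
  refine ⟨x * (w ^ k)⁻¹, mul_mem hx (inv_mem (pow_mem hwX k)), w ^ k, pow_mem hwX k, ?_, ?_, by group⟩
  · have hconjk : t * w ^ k * t = (w ^ k)⁻¹ := by
      have hti : t⁻¹ = t := inv_eq_of_mul_eq_one_right ht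
      have := conj_pow (a := t) (b := w) (i := k)
      rw [hti, htwt, inv_pow] at this
      exact this.symm
    have h1 : t * x * t = x * w⁻¹ := by rw [hw]; group
    have h2 : t * (w ^ k)⁻¹ * t = w ^ k := by
      have hti : t⁻¹ = t := inv_eq_of_mul_eq_one_right ht
      have h3 := congrArg (·⁻¹) hconjk
      simpa [mul_inv_rev, hti, mul_assoc] using h3
    have h4 : t * (x * (w ^ k)⁻¹) * t = x * (w ^ k)⁻¹ := by
      calc t * (x * (w ^ k)⁻¹) * t = t * x * t * (t * (w ^ k)⁻¹ * t) := by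
            simp only [mul_assoc]; rw [← mul_assoc t t, ht, one_mul]
        _ = x * w⁻¹ * w ^ k := by rw [h1, h2]
        _ = x * (w ^ k)⁻¹ := by
            have e : w⁻¹ = (w ^ k)⁻¹ * (w ^ k)⁻¹ := by rw [← mul_inv_rev, hk]
            rw [e, mul_assoc, mul_assoc, inv_mul_cancel, mul_one]
    calc t * (x * (w ^ k)⁻¹) = t * (x * (w ^ k)⁻¹) * (t * t) := by rw [ht, mul_one]
      _ = (t * (x * (w ^ k)⁻¹) * t) * t := by group
      _ = _ := by rw [h4]
  · have hti : t⁻¹ = t := inv_eq_of_mul_eq_one_right ht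
    have := conj_pow (a := t) (b := w) (i := k)
    rw [hti, htwt, inv_pow] at this
    exact this.symm

theorem decomp_unique (ht : t * t = 1) (hodd : Odd (Nat.card X)) {y z y' z' : M}
    (hy : t * y = y * t) (hy' : t * y' = y' * t) (hz : z ∈ X) (hz' : z' ∈ X)
    (hzt : t * z * t = z⁻¹) (hzt' : t * z' * t = z'⁻¹) (h : y * z = y' * z') : y = y' ∧ z = z' := by
  have key : ∀ y z : M, t * y = y * t → t * z * t = z⁻¹ → (t * (y * z) * t)⁻¹ * (y * z) = z * z := by
    intro y z hy hz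
    rw [show t * (y * z) * t = (t * y) * z * t by group, hy, show y * t * z * t = y * (t * z * t) by group, hz]
    group
  have h1 := key y z hy hzt
  rw [h, key y' z' hy' hzt'] at h1
  have hzz := sq_injOn hodd hz' hz h1
  subst hzz
  exact ⟨mul_right_cancel h, rfl⟩

end OddAction

variable {G Ω : Type*} [Group G] [Finite G] [MulAction G Ω] {a : Ω} {t : G} {Q : Subgroup G}
  (hS : Cfsg.IsRankOneSetup G Ω a t Q)

local notation "stD" => (MulAction.stabilizer G a ⊓ MulAction.stabilizer G (t • a))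

include hS

theorem t_inv : t⁻¹ = t := inv_eq_of_mul_eq_one_right hS.mul_self

theorem ta_ne : t • a ≠ a := fun h => hS.not_mem h

theorem t_ta : t • t • a = a := by rw [← mul_smul, hS.mul_self, one_smul]

theorem t_norm_D {d : G} (hd : d ∈ stD) : t * d * t ∈ stD := by
  obtain ⟨h1, h2⟩ := Subgroup.mem_inf.1 hd
  rw [MulAction.mem_stabilizer_iff] at h1 h2
  refine Subgroup.mem_inf.2 ⟨?_, ?_⟩ <;> rw [MulAction.mem_stabilizer_iff]
  · rw [mul_smul, mul_smul, h2, t_ta hS]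
  · rw [mul_smul, mul_smul, t_ta hS, h1]

theorem D_norm_Q {d x : G} (hd : d ∈ stD) (hx : x ∈ Q) : d * x * d⁻¹ ∈ Q :=
  hS.conj_mem d (Subgroup.mem_inf.1 hd).1 x hx

theorem exists_mem_mul {g : G} (hg : g ∈ MulAction.stabilizer G a) :
    ∃ x ∈ Q, ∃ d ∈ stD, g = x * d := by
  have hn : stD ≤ Subgroup.normalizer (Q : Set G) := by
    intro d hd
    rw [Subgroup.mem_normalizer_iff]
    intro x
    refine ⟨fun hx => D_norm_Q hS hd hx, fun hx => ?_⟩
    have := D_norm_Q hS (inv_mem hd) hx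
    rwa [show d⁻¹ * (d * x * d⁻¹) * d⁻¹⁻¹ = x by group] at this
  rw [← hS.sup_eq, ← SetLike.mem_coe,
    Subgroup.coe_mul_of_right_le_normalizer_left _ _ hn] at hg
  obtain ⟨x, hx, d, hd, e⟩ := hg
  exact ⟨x, hx, d, hd, e.symm⟩

/-- `Q` is transitive off `a`. -/
theorem exists_Q_smul {b : Ω} (hb : b ≠ a) : ∃ x ∈ Q, x • (t • a) = b := by
  obtain ⟨g, hga, hgb⟩ :=
    MulAction.is_two_pretransitive_iff.1 hS.two_transitive (ta_ne hS).symm hb.symm
  obtain ⟨x, hx, d, hd, rfl⟩ := exists_mem_mul hS (MulAction.mem_stabilizer_iff.2 hga)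
  refine ⟨x, hx, ?_⟩
  rwa [mul_smul, (Subgroup.mem_inf.1 hd).2] at hgb

theorem eq_one_of_smul_ta {x : G} (hx : x ∈ Q) (h : x • (t • a) = t • a) : x = 1 := by
  have : x ∈ Q ⊓ MulAction.stabilizer G (t • a) := Subgroup.mem_inf.2 ⟨hx, h⟩
  rwa [hS.inf_eq_bot, Subgroup.mem_bot] at this

theorem Q_smul_a {x : G} (hx : x ∈ Q) : x • a = a := hS.le hx

theorem Q_smul_inj {x y : G} (hx : x ∈ Q) (hy : y ∈ Q) (h : x • (t • a) = y • (t • a)) : x = y :=
  (inv_mul_eq_one.1 (eq_one_of_smul_ta hS (mul_mem (inv_mem hy) hx)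
    (by rw [mul_smul, h, inv_smul_smul]))).symm

/-- A non-trivial element of `Q` fixes only `a`. -/
theorem fixed_eq_of_mem_Q {x : G} (hx : x ∈ Q) (hx1 : x ≠ 1) {b : Ω} (h : x • b = b) : b = a := by
  by_contra hb
  obtain ⟨y, hy, rfl⟩ := exists_Q_smul hS hb
  have h1 : y⁻¹ * x * y = 1 := eq_one_of_smul_ta hS (mul_mem (mul_mem (inv_mem hy) hx) hy)
    (by rw [mul_smul, mul_smul, h, inv_smul_smul])
  exact hx1 (by
    calc x = y * (y⁻¹ * x * y) * y⁻¹ := by group
      _ = 1 := by rw [h1]; group)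

theorem regular_Q {b c : Ω} (hb : b ≠ a) (hc : c ≠ a) : ∃! x : Q, (x : G) • b = c := by
  obtain ⟨y, hy, rfl⟩ := exists_Q_smul hS hb
  obtain ⟨z, hz, rfl⟩ := exists_Q_smul hS hc
  refine ⟨⟨z * y⁻¹, mul_mem hz (inv_mem hy)⟩, ?_, ?_⟩
  · show (z * y⁻¹) • y • t • a = z • t • a
    rw [mul_smul, inv_smul_smul]
  · rintro ⟨x, hx⟩ h
    apply Subtype.ext
    have h1 : x * y = z := Q_smul_inj hS (mul_mem hx hy) hz (by rw [mul_smul]; exact h)
    show x = z * y⁻¹
    rw [← h1]; group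

theorem exists_involution_Q : ∃ s ∈ Q, s ≠ 1 ∧ s * s = 1 := by
  haveI : Fact (Nat.Prime 2) := ⟨Nat.prime_two⟩
  obtain ⟨⟨s, hs⟩, h⟩ := exists_prime_orderOf_dvd_card' (G := Q) 2 (even_iff_two_dvd.1 hS.even_card)
  rw [Subgroup.orderOf_mk] at h
  refine ⟨s, hs, fun e => by rw [e, orderOf_one] at h; omega, ?_⟩
  rw [← pow_two]
  exact orderOf_dvd_iff_pow_eq_one.1 h.dvd

/-- `Ω` is `Q` plus one point. -/
noncomputable def optionEquiv : Option Q ≃ Ω :=
  Equiv.ofBijective (fun o => o.elim a fun x => (x : G) • (t • a))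
    ⟨by
      rintro (_ | ⟨x, hx⟩) (_ | ⟨y, hy⟩) h
      · rfl
      · exfalso
        have h' : y • t • a = y • a := h.symm.trans (Q_smul_a hS hy).symm
        exact ta_ne hS ((smul_left_cancel_iff y).1 h')
      · exfalso
        have h' : x • t • a = x • a := h.trans (Q_smul_a hS hx).symm
        exact ta_ne hS ((smul_left_cancel_iff x).1 h')
      · exact congrArg some (Subtype.ext (Q_smul_inj hS hx hy h)),
     fun b => by
      by_cases hb : b = a
      · exact ⟨none, hb.symm⟩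
      · obtain ⟨x, hx, h⟩ := exists_Q_smul hS hb
        exact ⟨some ⟨x, hx⟩, h⟩⟩

theorem finite_points : Finite Ω := Finite.of_equiv _ (optionEquiv hS)

theorem card_points : Nat.card Ω = Nat.card Q + 1 := by
  rw [← Nat.card_congr (optionEquiv hS), Finite.card_option]

theorem card_stab : Nat.card (MulAction.stabilizer G a) = Nat.card Q * Nat.card ↥stD := by
  let f : Q × ↥stD → MulAction.stabilizer G a := fun p =>
    ⟨p.1 * p.2, mul_mem (hS.le p.1.2) (Subgroup.mem_inf.1 p.2.2).1⟩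
  have hf : Function.Bijective f := by
    refine ⟨?_, fun g => ?_⟩
    · rintro ⟨x, d⟩ ⟨y, e⟩ h
      have h' : (x : G) * d = (y : G) * e := congrArg Subtype.val h
      have h1 := congrArg (fun g : G => g • (t • a)) h'
      simp only [mul_smul, (Subgroup.mem_inf.1 d.2).2, (Subgroup.mem_inf.1 e.2).2] at h1
      rw [show (d : G) • t • a = t • a from (Subgroup.mem_inf.1 d.2).2,
        show (e : G) • t • a = t • a from (Subgroup.mem_inf.1 e.2).2] at h1
      have hxy := Q_smul_inj hS x.2 y.2 h1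
      rw [hxy] at h'
      exact Prod.ext (Subtype.ext hxy) (Subtype.ext (mul_left_cancel h'))
    · obtain ⟨x, hx, d, hd, h⟩ := exists_mem_mul hS g.2
      exact ⟨(⟨x, hx⟩, ⟨d, hd⟩), Subtype.ext h.symm⟩
  rw [← Nat.card_eq_of_bijective f hf, Nat.card_prod]

theorem pretransitive : MulAction.IsPretransitive G Ω :=
  haveI := hS.two_transitive
  MulAction.isPretransitive_of_is_two_pretransitive

theorem card_group : Nat.card G = Nat.card Q * Nat.card ↥stD * (Nat.card Q + 1) := by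
  haveI := pretransitive hS
  rw [← card_stab hS, ← card_points hS, ← MulAction.index_stabilizer_of_transitive G a,
    Subgroup.card_mul_index]

theorem exists_sylow_le : ∃ P : Sylow 2 G, (P : Subgroup G) ≤ Q := by
  haveI : Fact (Nat.Prime 2) := ⟨Nat.prime_two⟩
  obtain ⟨R⟩ : Nonempty (Sylow 2 Q) := inferInstance
  have hR : Nat.card ((R : Subgroup Q).map Q.subtype) = 2 ^ (Nat.card G).factorization 2 := by
    rw [Subgroup.card_map_of_injective Q.subtype_injective, R.card_eq_multiplicity]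
    congr 1
    have hQ : Nat.card Q ≠ 0 := Nat.card_pos.ne'
    have hD : Nat.card ↥stD ≠ 0 := Nat.card_pos.ne'
    have hodd : ¬ 2 ∣ Nat.card Q + 1 := by
      have := even_iff_two_dvd.1 hS.even_card
      omega
    have hdodd : ¬ 2 ∣ Nat.card ↥stD := by
      intro h; exact Nat.not_even_iff_odd.2 hS.odd_card (even_iff_two_dvd.2 h)
    rw [card_group hS, Nat.factorization_mul (mul_ne_zero hQ hD) (Nat.succ_ne_zero _),
      Nat.factorization_mul hQ hD]
    rw [Finsupp.add_apply, Finsupp.add_apply, Nat.factorization_eq_zero_of_not_dvd hodd,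
      Nat.factorization_eq_zero_of_not_dvd hdodd, add_zero, add_zero]
  exact ⟨Sylow.ofCard _ hR, by rintro x ⟨y, -, rfl⟩; exact y.2⟩

theorem exists_canonical {g : G} (hg : g ∉ MulAction.stabilizer G a) :
    ∃ x ∈ MulAction.stabilizer G a, ∃ y ∈ Q, g = x * t * y := by
  have hb : g⁻¹ • a ≠ a := fun h => hg (by rw [inv_smul_eq_iff] at h; exact h.symm)
  obtain ⟨z, hz, h⟩ := exists_Q_smul hS hb
  refine ⟨g * z * t, ?_, z⁻¹, inv_mem hz, ?_⟩
  · rw [MulAction.mem_stabilizer_iff, mul_smul, mul_smul, h, smul_inv_smul]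
  · simp only [mul_assoc]
    rw [← mul_assoc t t, hS.mul_self, one_mul, mul_inv_cancel, mul_one]

theorem canonical_unique {x y x' y' : G} (hx : x ∈ MulAction.stabilizer G a) (hy : y ∈ Q)
    (hx' : x' ∈ MulAction.stabilizer G a) (hy' : y' ∈ Q) (h : x * t * y = x' * t * y') :
    x = x' ∧ y = y' := by
  have key : ∀ x y : G, x ∈ MulAction.stabilizer G a → (x * t * y)⁻¹ • a = y⁻¹ • (t • a) := by
    intro x y hx
    rw [mul_inv_rev, mul_inv_rev, t_inv hS, mul_smul, mul_smul,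
      inv_smul_eq_iff.2 (MulAction.mem_stabilizer_iff.1 hx).symm]
  have h1 : y = y' := by
    have := key x y hx
    rw [h, key x' y' hx'] at this
    exact (inv_injective (Q_smul_inj hS (inv_mem hy') (inv_mem hy) this)).symm
  subst h1
  exact ⟨mul_right_cancel (mul_right_cancel h), rfl⟩

/-- Uniqueness of `x * d` with `x ∈ Q`, `d ∈ D`. -/
theorem mul_unique {x d y e : G} (hx : x ∈ Q) (hd : d ∈ stD) (hy : y ∈ Q) (he : e ∈ stD)
    (h : x * d = y * e) : x = y ∧ d = e := by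
  have h1 := congrArg (fun g : G => g • (t • a)) h
  simp only [mul_smul] at h1
  rw [show d • t • a = t • a from (Subgroup.mem_inf.1 hd).2,
    show e • t • a = t • a from (Subgroup.mem_inf.1 he).2] at h1
  have hxy := Q_smul_inj hS hx hy h1
  subst hxy
  exact ⟨rfl, mul_left_cancel h⟩

theorem gh_unique {g h f g' h' f' : G} (hg : g ∈ Q) (hh : h ∈ stD) (hf : f ∈ Q) (hg' : g' ∈ Q)
    (hh' : h' ∈ stD) (hf' : f' ∈ Q) (e : g * h * t * f = g' * h' * t * f') :
    g = g' ∧ h = h' ∧ f = f' := by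
  obtain ⟨h1, h2⟩ := canonical_unique hS (mul_mem (hS.le hg) (Subgroup.mem_inf.1 hh).1) hf
    (mul_mem (hS.le hg') (Subgroup.mem_inf.1 hh').1) hf' e
  obtain ⟨h3, h4⟩ := mul_unique hS hg hh hg' hh' h1
  exact ⟨h3, h4, h2⟩

theorem mem_Q_of_sq_eq_one {s : G} (hs : s ∈ MulAction.stabilizer G a) (h2 : s * s = 1) : s ∈ Q := by
  obtain ⟨x, hx, d, hd, rfl⟩ := exists_mem_mul hS hs
  have h1 : x * (d * x * d⁻¹) * (d * d) = 1 * 1 := by rw [one_mul, ← h2]; group
  obtain ⟨-, h3⟩ := mul_unique hS (mul_mem hx (D_norm_Q hS hd hx)) (mul_mem hd hd) (one_mem _)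
    (one_mem _) h1
  have : d = 1 := sq_injOn (X := stD) hS.odd_card hd (one_mem _) (by rw [h3, one_mul])
  subst this
  simpa using hx

/-- The fixed point of an involution of `G_a` is unique. -/
theorem fixed_eq_of_involution {s : G} (hs : s ∈ MulAction.stabilizer G a) (h1 : s ≠ 1)
    (h2 : s * s = 1) {b : Ω} (hb : s • b = b) : b = a :=
  fixed_eq_of_mem_Q hS (mem_Q_of_sq_eq_one hS hs h2) h1 hb

theorem odd_orderOf_mul {s u : G} (hs : s ∈ MulAction.stabilizer G a) (hs1 : s ≠ 1) (hs2 : s * s = 1)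
    (hu : u ∉ MulAction.stabilizer G a) (hu2 : u * u = 1) : Odd (orderOf (s * u)) := by
  by_contra hodd
  rw [Nat.not_odd_iff_even] at hodd
  obtain ⟨k, hk⟩ := hodd
  set w := s * u with hw
  set z := w ^ k with hz
  have hkpos : 0 < k := by have := orderOf_pos w; omega
  have hz1 : z ≠ 1 := by
    intro h
    have := Nat.le_of_dvd hkpos (orderOf_dvd_of_pow_eq_one h)
    omega
  have hz2 : z * z = 1 := by rw [hz, ← pow_add, ← hk, pow_orderOf_eq_one]
  have hsi : s⁻¹ = s := inv_eq_of_mul_eq_one_right hs2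
  have hui : u⁻¹ = u := inv_eq_of_mul_eq_one_right hu2
  have hzi : z⁻¹ = z := inv_eq_of_mul_eq_one_right hz2
  have hinv : s * w * s⁻¹ = w⁻¹ := by
    rw [hw, mul_inv_rev, hsi, hui, ← mul_assoc s s u, hs2, one_mul]
  have hsz : s * z * s⁻¹ = z := by rw [hz, ← conj_pow, hinv, inv_pow, ← hz, hzi]
  have hsz' : s * z = z * s := mul_inv_eq_iff_eq_mul.1 hsz
  have huz : u * z = z * u := by
    have h1 : u = s * w := by rw [hw, ← mul_assoc, hs2, one_mul]
    have h2 : w * z = z * w := (Commute.self_pow w k).eq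
    calc u * z = s * w * z := by rw [h1]
      _ = s * (z * w) := by rw [mul_assoc, h2]
      _ = z * s * w := by rw [← mul_assoc, hsz']
      _ = z * u := by rw [h1, mul_assoc]
  have hza : z • a = a := fixed_eq_of_involution hS hs hs1 hs2 (by
    rw [← mul_smul, hsz', mul_smul, MulAction.mem_stabilizer_iff.1 hs])
  exact hu (fixed_eq_of_involution hS hza hz1 hz2 (b := u • a) (by
    rw [← mul_smul, ← huz, mul_smul, hza]))

theorem conj_of_odd {s u : G} (hs2 : s * s = 1) (hu2 : u * u = 1) (h : Odd (orderOf (s * u))) :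
    ∃ g : G, g * s * g⁻¹ = u := by
  obtain ⟨k, hk⟩ := h
  set w := s * u with hw
  have hsi : s⁻¹ = s := inv_eq_of_mul_eq_one_right hs2
  have hui : u⁻¹ = u := inv_eq_of_mul_eq_one_right hu2
  have hinv : s * w * s⁻¹ = w⁻¹ := by
    rw [hw, mul_inv_rev, hsi, hui, ← mul_assoc s s u, hs2, one_mul]
  refine ⟨w ^ k, ?_⟩
  have h1 : s * (w ^ k)⁻¹ = w ^ k * s := by
    have := conj_pow (a := s) (b := w) (i := k)
    rw [hinv, inv_pow] at this
    rw [this, ← mul_assoc, ← mul_assoc, hs2, one_mul, hsi]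
  rw [mul_assoc, h1, ← mul_assoc, ← pow_add]
  have h2 : w ^ (k + k) = w⁻¹ := by
    rw [eq_inv_iff_mul_eq_one, ← pow_succ, show k + k + 1 = orderOf w by omega, pow_orderOf_eq_one]
  rw [h2, hw, mul_inv_rev, hsi, hui, mul_assoc, hs2, mul_one]

theorem involutions_conj {u v : G} (hu1 : u ≠ 1) (hu2 : u * u = 1) (hv1 : v ≠ 1) (hv2 : v * v = 1) :
    ∃ g : G, g * u * g⁻¹ = v := by
  obtain ⟨s, hsQ, hs1, hs2⟩ := exists_involution_Q hS
  have key : ∀ w : G, w ≠ 1 → w * w = 1 → ∃ g : G, g * s * g⁻¹ = w := by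
    intro w hw1 hw2
    by_cases hw : w ∈ MulAction.stabilizer G a
    · obtain ⟨g, hg⟩ := conj_of_odd hS hs2 hS.mul_self
        (odd_orderOf_mul hS (hS.le hsQ) hs1 hs2 hS.not_mem hS.mul_self)
      obtain ⟨h, hh⟩ := conj_of_odd hS hw2 hS.mul_self
        (odd_orderOf_mul hS hw hw1 hw2 hS.not_mem hS.mul_self)
      refine ⟨h⁻¹ * g, ?_⟩
      calc h⁻¹ * g * s * (h⁻¹ * g)⁻¹ = h⁻¹ * (g * s * g⁻¹) * h := by group
        _ = h⁻¹ * (h * w * h⁻¹) * h := by rw [hg, hh]
        _ = w := by group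
    · exact conj_of_odd hS hs2 hw2 (odd_orderOf_mul hS (hS.le hsQ) hs1 hs2 hw hw2)
  obtain ⟨g, hg⟩ := key u hu1 hu2
  obtain ⟨h, hh⟩ := key v hv1 hv2
  refine ⟨h * g⁻¹, ?_⟩
  calc h * g⁻¹ * u * (h * g⁻¹)⁻¹ = h * (g⁻¹ * u * g) * h⁻¹ := by group
    _ = h * (g⁻¹ * (g * s * g⁻¹) * g) * h⁻¹ := by rw [hg]
    _ = v := by rw [← hh]; group

/-- Every involution fixes exactly one point. -/
theorem existsUnique_fixed {u : G} (h1 : u ≠ 1) (h2 : u * u = 1) : ∃! b : Ω, u • b = b := by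
  obtain ⟨s, hsQ, hs1, hs2⟩ := exists_involution_Q hS
  obtain ⟨g, rfl⟩ := involutions_conj hS hs1 hs2 h1 h2
  refine ⟨g • a, ?_, ?_⟩
  · show (g * s * g⁻¹) • g • a = g • a
    rw [mul_smul, mul_smul, inv_smul_smul, Q_smul_a hS hsQ]
  · intro b hb
    have : s • g⁻¹ • b = g⁻¹ • b := by
      rw [mul_smul, mul_smul, ← eq_inv_smul_iff] at hb
      exact hb
    rw [← fixed_eq_of_mem_Q hS hsQ hs1 this, smul_inv_smul]

/-- The structure equation. -/
theorem exists_structure : ∃ s r : G, s ∈ Cfsg.involutionsIn (MulAction.stabilizer G a : Set G) ∧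
    r ∈ Q ∧ t * s * t = r⁻¹ * t * r := by
  obtain ⟨c, hc, -⟩ := existsUnique_fixed hS hS.ne_one hS.mul_self
  have hca : c ≠ a := fun h => hS.not_mem (h ▸ hc)
  obtain ⟨r, hr, hrc⟩ := exists_Q_smul hS hca
  refine ⟨t * (r⁻¹ * t * r) * t, r, ⟨?_, ?_, ?_⟩, hr, ?_⟩
  · show (t * (r⁻¹ * t * r) * t) • a = a
    rw [mul_smul, mul_smul, mul_smul, mul_smul, hrc, hc, ← hrc, inv_smul_smul, t_ta hS]
  · intro h
    refine hS.ne_one ?_
    have h' : r⁻¹ * t * r = t * t := by
      calc r⁻¹ * t * r = t * t * (r⁻¹ * t * r) * (t * t) := by rw [hS.mul_self]; group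
        _ = t * (t * (r⁻¹ * t * r) * t) * t := by group
        _ = t * t := by rw [h, mul_one]
    rw [hS.mul_self] at h'
    calc t = r * (r⁻¹ * t * r) * r⁻¹ := by group
      _ = 1 := by rw [h']; group
  · calc t * (r⁻¹ * t * r) * t * (t * (r⁻¹ * t * r) * t)
        = t * (r⁻¹ * t * r) * (t * t) * (r⁻¹ * t * r) * t := by group
      _ = t * (r⁻¹ * t * r) * (r⁻¹ * t * r) * t := by rw [hS.mul_self, mul_one]
      _ = t * (r⁻¹ * (t * t) * r) * t := by group
      _ = 1 := by rw [hS.mul_self, mul_one, inv_mul_cancel, mul_one, hS.mul_self]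
  · calc t * (t * (r⁻¹ * t * r) * t) * t = (t * t) * (r⁻¹ * t * r) * (t * t) := by group
      _ = _ := by rw [hS.mul_self, one_mul, mul_one]

theorem structure_unique {s r s' r' : G} (hs : s ∈ MulAction.stabilizer G a) (hr : r ∈ Q)
    (hs' : s' ∈ MulAction.stabilizer G a) (hr' : r' ∈ Q) (e : t * s * t = r⁻¹ * t * r)
    (e' : t * s' * t = r'⁻¹ * t * r') : s = s' ∧ r = r' := by
  obtain ⟨c, -, huniq⟩ := existsUnique_fixed hS hS.ne_one hS.mul_self
  have key : ∀ s r : G, s ∈ MulAction.stabilizer G a → t * s * t = r⁻¹ * t * r → r • (t • a) = c := by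
    intro s r hs e
    apply huniq
    have h1 : (r⁻¹ * t * r) • (t • a) = t • a := by
      rw [← e, mul_smul, mul_smul, t_ta hS, MulAction.mem_stabilizer_iff.1 hs]
    rwa [mul_smul, mul_smul, inv_smul_eq_iff] at h1
  have hrr : r = r' := Q_smul_inj hS hr hr' ((key s r hs e).trans (key s' r' hs' e').symm)
  subst hrr
  exact ⟨mul_left_cancel (mul_right_cancel (e.trans e'.symm)), rfl⟩

/-- `C_D(t) = C_D(s)` for the structure involution `s`. -/
theorem centralizer_eq_of_structure {s r : G} (hs : s ∈ MulAction.stabilizer G a) (hr : r ∈ Q)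
    (e : t * s * t = r⁻¹ * t * r) :
    stD ⊓ Subgroup.centralizer {t} = stD ⊓ Subgroup.centralizer {s} := by
  ext d
  simp only [Subgroup.mem_inf (p := stD), Subgroup.mem_centralizer_singleton_iff]
  refine and_congr_right fun hd => ?_
  constructor
  · intro hdt
    have hdt' : d * t * d⁻¹ = t := mul_inv_eq_iff_eq_mul.2 hdt
    have e' : t * (d * s * d⁻¹) * t = (d * r * d⁻¹)⁻¹ * t * (d * r * d⁻¹) := by
      calc t * (d * s * d⁻¹) * t = (d * t * d⁻¹) * (d * s * d⁻¹) * (d * t * d⁻¹) := by rw [hdt']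
        _ = d * (t * s * t) * d⁻¹ := by group
        _ = d * (r⁻¹ * t * r) * d⁻¹ := by rw [e]
        _ = (d * r * d⁻¹)⁻¹ * (d * t * d⁻¹) * (d * r * d⁻¹) := by group
        _ = _ := by rw [hdt']
    have h1 := structure_unique hS
      (mul_mem (mul_mem (Subgroup.mem_inf.1 hd).1 hs) (inv_mem (Subgroup.mem_inf.1 hd).1))
      (D_norm_Q hS hd hr) hs hr e' e
    exact mul_inv_eq_iff_eq_mul.1 h1.1
  · intro hds
    set δ := t * d * t with hδ
    have hδD := t_norm_D hS hd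
    have hδu : δ * (r⁻¹ * t * r) = r⁻¹ * t * r * δ := by
      rw [← e, hδ]
      calc t * d * t * (t * s * t) = t * d * (t * t) * s * t := by group
        _ = t * (d * s) * t := by rw [hS.mul_self]; group
        _ = t * (s * d) * t := by rw [hds]
        _ = t * s * (t * t) * d * t := by rw [hS.mul_self]; group
        _ = _ := by group
    set ε := r * δ * r⁻¹ with hε
    have hεt : ε * t = t * ε := by
      calc ε * t = r * (δ * (r⁻¹ * t * r)) * r⁻¹ := by rw [hε]; group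
        _ = r * (r⁻¹ * t * r * δ) * r⁻¹ := by rw [hδu]
        _ = t * ε := by rw [hε]; group
    have hεA : ε • a = a := MulAction.mem_stabilizer_iff.1
      (mul_mem (mul_mem (hS.le hr) (Subgroup.mem_inf.1 hδD).1) (inv_mem (hS.le hr)))
    have hεD : ε ∈ stD := Subgroup.mem_inf.2 ⟨hεA, by
      rw [MulAction.mem_stabilizer_iff, ← mul_smul, hεt, mul_smul, hεA]⟩
    have hq : r * (δ * r⁻¹ * δ⁻¹) ∈ Q := mul_mem hr (D_norm_Q hS hδD (inv_mem hr))
    obtain ⟨h1, h2⟩ := mul_unique hS hq hδD (one_mem _) hεD (by rw [hε, ← hδ]; group)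
    have hεδ : δ = ε := h2
    rw [← hεδ, hδ] at hεt
    calc d * t = t * (t * d * t) := by
          simp only [← mul_assoc, hS.mul_self, one_mul]
      _ = t * d * t * t := hεt.symm
      _ = t * d := by rw [mul_assoc, hS.mul_self, mul_one]

theorem mem_inverted_iff {k : G} :
    k ∈ Cfsg.invertedBy stD t ↔ k ∈ stD ∧ t * k * t = k⁻¹ := by
  show k ∈ stD ∧ t * k * t⁻¹ = k⁻¹ ↔ _
  rw [t_inv hS]

/-- The involutions interchanging `a` and `t • a` are the `t * k`, `k` inverted by `t`. -/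
theorem swap_iff {v : G} : (v ≠ 1 ∧ v * v = 1 ∧ v • a = t • a) ↔
    ∃ k ∈ Cfsg.invertedBy stD t, v = t * k := by
  constructor
  · rintro ⟨-, hv2, hva⟩
    have hvta : v • t • a = a := by rw [← hva, ← mul_smul, hv2, one_smul]
    refine ⟨t * v, (mem_inverted_iff hS).2 ⟨Subgroup.mem_inf.2 ⟨?_, ?_⟩, ?_⟩, ?_⟩
    · rw [MulAction.mem_stabilizer_iff, mul_smul, hva, t_ta hS]
    · rw [MulAction.mem_stabilizer_iff, mul_smul, hvta]
    · rw [mul_inv_rev, t_inv hS, inv_eq_of_mul_eq_one_right hv2, ← mul_assoc, hS.mul_self, one_mul]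
    · rw [← mul_assoc, hS.mul_self, one_mul]
  · rintro ⟨k, hk, rfl⟩
    obtain ⟨hkD, hkt⟩ := (mem_inverted_iff hS).1 hk
    refine ⟨fun h => hS.not_mem ?_, ?_, ?_⟩
    · rw [show t = k⁻¹ from eq_inv_of_mul_eq_one_left h]
      exact inv_mem (Subgroup.mem_inf.1 hkD).1
    · rw [show t * k * (t * k) = (t * k * t) * k by group, hkt, inv_mul_cancel]
    · rw [mul_smul, MulAction.mem_stabilizer_iff.1 (Subgroup.mem_inf.1 hkD).1]

/-- As many inverted elements of `D` as involutions fixing `a`. -/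
theorem card_inverted :
    Nat.card (Cfsg.invertedBy stD t) = Nat.card (Cfsg.involutionsIn (MulAction.stabilizer G a : Set G)) := by
  classical
  haveI := finite_points hS
  letI : Fintype Ω := Fintype.ofFinite Ω
  let I := {v : G // v ≠ 1 ∧ v * v = 1}
  set iA := Nat.card (Cfsg.involutionsIn (MulAction.stabilizer G a : Set G)) with hiA
  have hconj : ∀ (g : G) (v : G), v ≠ 1 ∧ v * v = 1 → (g * v * g⁻¹ ≠ 1 ∧ g * v * g⁻¹ * (g * v * g⁻¹) = 1) := by
    intro g v hv
    refine ⟨fun h => hv.1 ?_, ?_⟩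
    · rwa [mul_inv_eq_one, mul_eq_left] at h
    · rw [show g * v * g⁻¹ * (g * v * g⁻¹) = g * (v * v) * g⁻¹ by group, hv.2]; group
  -- count by fixed points
  have h1 : ∀ b : Ω, Nat.card {v : I // v.1 • b = b} = iA := by
    intro b
    obtain ⟨g, hg⟩ := (pretransitive hS).exists_smul_eq a b
    rw [hiA]
    refine Nat.card_congr
      { toFun := fun v => ⟨g⁻¹ * v.1.1 * g, ?_, ?_⟩
        invFun := fun w => ⟨⟨g * w.1 * g⁻¹, hconj g w.1 ⟨w.2.2.1, w.2.2.2⟩⟩, ?_⟩
        left_inv := fun v => Subtype.ext (Subtype.ext (by group))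
        right_inv := fun w => Subtype.ext (by group) }
    · show (g⁻¹ * v.1.1 * g) • a = a
      rw [mul_smul, mul_smul, hg, v.2, ← hg, inv_smul_smul]
    · have := hconj g⁻¹ v.1.1 v.1.2
      rw [inv_inv] at this
      exact this
    · show (g * w.1 * g⁻¹) • b = b
      rw [mul_smul, mul_smul, ← hg, inv_smul_smul, show w.1 • a = a from w.2.1]
  have e1 : Nat.card I = (Nat.card Q + 1) * iA := by
    rw [Nat.card_congr (Equiv.sigmaFiberEquiv
      (fun v : I => (existsUnique_fixed hS v.2.1 v.2.2).exists.choose)).symm, Nat.card_sigma]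
    rw [← card_points hS, Nat.card_eq_fintype_card (α := Ω), ← Finset.card_univ, ← smul_eq_mul,
      ← Finset.sum_const]
    refine Finset.sum_congr rfl fun b _ => ?_
    rw [← h1 b]
    refine Nat.card_congr (Equiv.subtypeEquivRight fun v => ?_)
    constructor
    · rintro rfl; exact (existsUnique_fixed hS v.2.1 v.2.2).exists.choose_spec
    · intro h
      exact (existsUnique_fixed hS v.2.1 v.2.2).unique
        (existsUnique_fixed hS v.2.1 v.2.2).exists.choose_spec h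
  -- count by the image of `a`
  have h2 : ∀ b : Ω, b ≠ a → Nat.card {v : I // v.1 • a = b} = Nat.card (Cfsg.invertedBy stD t) := by
    intro b hb
    obtain ⟨g, hgQ, hg⟩ := exists_Q_smul hS hb
    have hga := Q_smul_a hS hgQ
    have hga' : g⁻¹ • a = a := Q_smul_a hS (inv_mem hgQ)
    have hsw : ∀ v : {v : I // v.1 • a = b}, t * (g⁻¹ * v.1.1 * g) ∈ Cfsg.invertedBy stD t := by
      intro v
      have hc := hconj g⁻¹ v.1.1 v.1.2
      rw [inv_inv] at hc
      obtain ⟨k, hk, e⟩ := (swap_iff hS).1 ⟨hc.1, hc.2, by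
        rw [mul_smul, mul_smul, hga, v.2, ← hg, inv_smul_smul]⟩
      rw [e, ← mul_assoc, hS.mul_self, one_mul]
      exact hk
    refine Nat.card_congr
      { toFun := fun v => ⟨t * (g⁻¹ * v.1.1 * g), hsw v⟩
        invFun := fun k => ⟨⟨g * (t * k.1) * g⁻¹, hconj g _ ⟨((swap_iff hS).2 ⟨k.1, k.2, rfl⟩).1,
            ((swap_iff hS).2 ⟨k.1, k.2, rfl⟩).2.1⟩⟩, by
          show (g * (t * k.1) * g⁻¹) • a = b
          rw [mul_smul, mul_smul, hga', ((swap_iff hS).2 ⟨k.1, k.2, rfl⟩).2.2, hg]⟩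
        left_inv := fun v => Subtype.ext (Subtype.ext (by
          show g * (t * (t * (g⁻¹ * v.1.1 * g))) * g⁻¹ = v.1.1
          rw [← mul_assoc t t, hS.mul_self]; group))
        right_inv := fun k => Subtype.ext (by
          show t * (g⁻¹ * (g * (t * k.1) * g⁻¹) * g) = k.1
          rw [show g⁻¹ * (g * (t * k.1) * g⁻¹) * g = t * k.1 by group, ← mul_assoc, hS.mul_self,
            one_mul]) }
  have e2 : Nat.card I = iA + Nat.card Q * Nat.card (Cfsg.invertedBy stD t) := by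
    rw [Nat.card_congr (Equiv.sigmaFiberEquiv (fun v : I => v.1 • a)).symm, Nat.card_sigma,
      ← Finset.add_sum_erase Finset.univ _ (Finset.mem_univ a)]
    congr 1
    · exact h1 a
    · rw [Finset.sum_congr rfl (fun b hb => h2 b (Finset.ne_of_mem_erase hb)), Finset.sum_const,
        Finset.card_erase_of_mem (Finset.mem_univ a), Finset.card_univ, ← Nat.card_eq_fintype_card,
        card_points hS, smul_eq_mul, Nat.add_sub_cancel]
  rw [e1, add_mul, one_mul, add_comm] at e2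
  exact (Nat.eq_of_mul_eq_mul_left Nat.card_pos (Nat.add_left_cancel e2)).symm

theorem conj_mem_involutions {g s : G} (hg : g ∈ MulAction.stabilizer G a)
    (hs : s ∈ Cfsg.involutionsIn (MulAction.stabilizer G a : Set G)) :
    g⁻¹ * s * g ∈ Cfsg.involutionsIn (MulAction.stabilizer G a : Set G) := by
  obtain ⟨hsA, hs1, hs2⟩ := hs
  refine ⟨mul_mem (mul_mem (inv_mem hg) hsA) hg, fun h => hs1 ?_, ?_⟩
  · calc s = g * (g⁻¹ * s * g) * g⁻¹ := by group
      _ = 1 := by rw [h]; group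
  · rw [show g⁻¹ * s * g * (g⁻¹ * s * g) = g⁻¹ * (s * s) * g by group, hs2]; group

theorem conj_inverted_injective {s r k₀ k₁ k₂ : G} (hs : s ∈ MulAction.stabilizer G a) (hr : r ∈ Q)
    (e : t * s * t = r⁻¹ * t * r) (h0 : k₀ ∈ Cfsg.invertedBy stD t)
    (h1 : k₁ ∈ Cfsg.invertedBy stD t) (h2 : k₂ ∈ Cfsg.invertedBy stD t)
    (h : k₁⁻¹ * (k₀⁻¹ * s * k₀) * k₁ = k₂⁻¹ * (k₀⁻¹ * s * k₀) * k₂) : k₁ = k₂ := by
  obtain ⟨h0D, h0t⟩ := (mem_inverted_iff hS).1 h0
  obtain ⟨h1D, h1t⟩ := (mem_inverted_iff hS).1 h1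
  obtain ⟨h2D, h2t⟩ := (mem_inverted_iff hS).1 h2
  have hd : k₀ * k₂ * (k₀ * k₁)⁻¹ ∈ stD ⊓ Subgroup.centralizer {t} := by
    rw [centralizer_eq_of_structure hS hs hr e, Subgroup.mem_inf (p := stD),
      Subgroup.mem_centralizer_singleton_iff]
    refine ⟨mul_mem (mul_mem h0D h2D) (inv_mem (mul_mem h0D h1D)), ?_⟩
    calc k₀ * k₂ * (k₀ * k₁)⁻¹ * s
        = k₀ * k₂ * (k₁⁻¹ * (k₀⁻¹ * s * k₀) * k₁) * (k₀ * k₁)⁻¹ := by group
      _ = k₀ * k₂ * (k₂⁻¹ * (k₀⁻¹ * s * k₀) * k₂) * (k₀ * k₁)⁻¹ := by rw [h]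
      _ = _ := by group
  obtain ⟨hdD, hdt⟩ := Subgroup.mem_inf.1 hd
  rw [Subgroup.mem_centralizer_singleton_iff] at hdt
  have key : ∀ k, t * k * t = k⁻¹ → t * (k₀ * k) * t = k₀⁻¹ * k⁻¹ := by
    intro k hk
    calc t * (k₀ * k) * t = t * k₀ * (t * t) * k * t := by rw [hS.mul_self]; group
      _ = (t * k₀ * t) * (t * k * t) := by group
      _ = _ := by rw [h0t, hk]
  have hdt' : t * (k₀ * k₂ * (k₀ * k₁)⁻¹) * t = k₀ * k₂ * (k₀ * k₁)⁻¹ := by
    rw [← hdt, mul_assoc, hS.mul_self, mul_one]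
  have h3 : k₀⁻¹ * k₂⁻¹ * (k₀⁻¹ * k₁⁻¹)⁻¹ = k₀ * k₂ * (k₀ * k₁)⁻¹ := by
    rw [← key k₂ h2t, ← key k₁ h1t, ← hdt']
    simp only [mul_inv_rev, t_inv hS, mul_assoc]
    rw [← mul_assoc t t, hS.mul_self, one_mul]
  have hsq : (k₀ * k₁ * k₀) * (k₀ * k₁ * k₀) = (k₀ * k₂ * k₀) * (k₀ * k₂ * k₀) := by
    calc (k₀ * k₁ * k₀) * (k₀ * k₁ * k₀)
        = k₀ * (k₀⁻¹ * k₁⁻¹)⁻¹ * (k₀ * k₁) * k₀ := by group
      _ = k₀ * (k₂ * k₀) * (k₀⁻¹ * k₂⁻¹ * (k₀⁻¹ * k₁⁻¹)⁻¹) * (k₀ * k₁) * k₀ := by group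
      _ = k₀ * (k₂ * k₀) * (k₀ * k₂ * (k₀ * k₁)⁻¹) * (k₀ * k₁) * k₀ := by rw [h3]
      _ = _ := by group
  have := sq_injOn (X := stD) hS.odd_card (mul_mem (mul_mem h0D h1D) h0D)
    (mul_mem (mul_mem h0D h2D) h0D) hsq
  exact mul_left_cancel (mul_right_cancel this)

/-- The inverted elements permute the involutions of `G_a` transitively. -/
theorem conj_inverted_surjective {s s' : G}
    (hs : s ∈ Cfsg.involutionsIn (MulAction.stabilizer G a : Set G))
    (hs' : s' ∈ Cfsg.involutionsIn (MulAction.stabilizer G a : Set G)) :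
    ∃ k ∈ Cfsg.invertedBy stD t, k⁻¹ * s * k = s' := by
  obtain ⟨s₀, r, hs₀, hr, e⟩ := exists_structure hS
  have main : ∀ (k₀ : G) (hk₀ : k₀ ∈ Cfsg.invertedBy stD t),
      Function.Surjective (fun k : Cfsg.invertedBy stD t =>
        (⟨(k : G)⁻¹ * (k₀⁻¹ * s₀ * k₀) * k, conj_mem_involutions hS
          (Subgroup.mem_inf.1 k.2.1).1 (conj_mem_involutions hS
            (Subgroup.mem_inf.1 ((mem_inverted_iff hS).1 hk₀).1).1 hs₀)⟩ :
          Cfsg.involutionsIn (MulAction.stabilizer G a : Set G))) := by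
    intro k₀ hk₀
    refine (Function.Injective.bijective_of_nat_card_le ?_ (card_inverted hS).ge).2
    intro x y hxy
    exact Subtype.ext (conj_inverted_injective hS hs₀.1 hr e hk₀ x.2 y.2 (congrArg Subtype.val hxy))
  have h1 : (1 : G) ∈ Cfsg.invertedBy stD t :=
    (mem_inverted_iff hS).2 ⟨one_mem _, by rw [mul_one, hS.mul_self, inv_one]⟩
  obtain ⟨⟨k₀, hk₀⟩, e0⟩ := main 1 h1 ⟨s, hs⟩
  have e0' : k₀⁻¹ * (1⁻¹ * s₀ * 1) * k₀ = s := congrArg Subtype.val e0
  rw [inv_one, one_mul, mul_one] at e0'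
  obtain ⟨⟨k, hk⟩, ek⟩ := main k₀ hk₀ ⟨s', hs'⟩
  refine ⟨k, hk, ?_⟩
  rw [← e0']
  exact congrArg Subtype.val ek

end CfsgLib.RankOne
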