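import Cfsg.Agent.FT.TransitiveLinear
import Cfsg.Agent.RegularLinear.Field
import Mathlib

/-!
An odd order solvable group, transitive on the non-zero vectors of a binary space, with an involutory
automorphism whose fixed elements fix a given vector: the inverted elements form the cyclic Fitting subgroup
and the fixed elements form a cyclic group.
-/

set_option autoImplicit false
set_option linter.style.haveILetI false

namespace CfsgLib.RankOne

universe u

theorem semilinear_core {D E : Type u} [Group D] [Finite D] [Group.IsSolvable D] [AddCommGroup E]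
    [Finite E] [Nontrivial E] [DistribMulAction D E] [FaithfulSMul D E] (hodd : Odd (Nat.card D))
    (hE : ∀ e : E, 2 • e = 0) (htrans : ∀ a b : E, a ≠ 0 → b ≠ 0 → ∃ d : D, d • a = b)
    (τ : D →* D) (hτ : ∀ x, τ (τ x) = x) {e₀ : E} (he₀ : e₀ ≠ 0)
    (hfix : ∀ x, τ x = x → x • e₀ = e₀) :
    IsCyclic ↥(Cfsg.fittingSubgroup D) ∧
      (∀ x, τ x = x⁻¹ ↔ x ∈ Cfsg.fittingSubgroup D) ∧
      ∃ g, τ g = g ∧ ∀ x, τ x = x → x ∈ Subgroup.zpowers g := by
  obtain ⟨hcyc, hfree⟩ := FT.fitting_cyclic_free hodd Nat.prime_two hE fun R hR a b ha hb => by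
      haveI := hR
      obtain ⟨d, rfl⟩ := htrans a b ha hb
      refine Nat.card_congr (Equiv.subtypeEquiv (MulAut.conjNormal (H := R) d).toEquiv fun r => ?_)
      simp only [MulAction.mem_stabilizer_iff, MulEquiv.toEquiv_eq_coe, EquivLike.coe_coe,
        Subgroup.smul_def, MulAut.conjNormal_apply, mul_smul, inv_smul_smul]
      exact (smul_left_cancel_iff d).symm
  set F := Cfsg.fittingSubgroup D with hF
  haveI : F.Normal := Solvable.fittingSubgroup_normal
  haveI : IsCyclic F := hcyc
  have hcomm : ∀ a ∈ F, ∀ b ∈ F, a * b = b * a := fun a ha b hb =>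
    congrArg Subtype.val (IsCyclic.commGroup.mul_comm (⟨a, ha⟩ : F) ⟨b, hb⟩)
  have hcent : ∀ x, (∀ f ∈ F, x * f = f * x) → x ∈ F := fun x hx =>
    Solvable.centralizer_fittingSubgroup_le (G := D)
      (Subgroup.mem_centralizer_iff.2 fun f hf => (hx f hf).symm)
  have hτF : ∀ f ∈ F, τ f ∈ F := fun f hf =>
    Solvable.map_fittingSubgroup_le (f := τ) (fun y => ⟨τ y, hτ y⟩) ⟨f, hf, rfl⟩
  -- fixed elements meet `F` trivially
  have hfixF : ∀ x ∈ F, τ x = x → x = 1 := fun x hx e => by
    by_contra h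
    exact he₀ (hfree x hx h e₀ (hfix x e))
  have hinvF : ∀ f ∈ F, τ f = f⁻¹ := by
    intro f hf
    have h1 : f * τ f = 1 := hfixF _ (mul_mem hf (hτF f hf)) (by
      rw [map_mul, hτ]; exact hcomm _ (hτF f hf) _ hf)
    exact eq_inv_of_mul_eq_one_right h1
  have hsq : ∀ x y : D, Commute (x * x) y → Commute x y := by
    intro x y h
    obtain ⟨k, hk⟩ := hodd
    have e : (x * x) ^ (k + 1) = x := by
      rw [← pow_two, ← pow_mul, show 2 * (k + 1) = Nat.card D + 1 by omega, pow_succ, pow_card_eq_one',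
        one_mul]
    rw [← e]
    exact h.pow_left _
  have hinv : ∀ x, τ x = x⁻¹ → x ∈ F := by
    intro x hx
    refine hcent x fun f hf => (hsq x f ?_).eq
    have h1 := hinvF _ (Subgroup.Normal.conj_mem ‹F.Normal› f hf x)
    rw [map_mul, map_mul, map_inv, hx, hinvF f hf] at h1
    have h2 : x⁻¹ * f * x = x * f * x⁻¹ := by
      have := congrArg (·⁻¹) h1
      simpa [mul_inv_rev, mul_assoc] using this
    show x * x * f = f * (x * x)
    calc x * x * f = x * (x * f * x⁻¹) * x := by group
      _ = x * (x⁻¹ * f * x) * x := by rw [h2]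
      _ = f * (x * x) := by group
  refine ⟨hcyc, fun x => ⟨hinv x, hinvF x⟩, ?_⟩
  -- the semilinear structure
  haveI : Fact (Nat.Prime 2) := ⟨Nat.prime_two⟩
  letI : Module (ZMod 2) E := AddCommGroup.zmodModule hE
  let ρ : D →* (E ≃ₗ[ZMod 2] E) :=
    { toFun := fun d =>
        { (DistribMulAction.toAddEquiv E d) with
          map_smul' := ZMod.map_smul (DistribMulAction.toAddEquiv E d).toAddMonoidHom }
      map_one' := LinearEquiv.ext fun x => one_smul D x
      map_mul' := fun a b => LinearEquiv.ext fun x => mul_smul a b x }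
  have hρ : ∀ d x, ρ d x = d • x := fun d x => rfl
  obtain ⟨K, fK, finK, mK, χ, θ, n, -, -, -, -, -, -, hker⟩ := RegLinear.exists_field_data ρ
    (fun a b e => eq_of_smul_eq_smul fun x : E => by rw [← hρ, e, hρ]) htrans F hcomm
  letI := fK
  haveI := finK
  haveI : IsCyclic (K ≃+* K) := by
    obtain ⟨p, hp⟩ := CharP.exists K
    haveI := hp
    haveI : Fact p.Prime := ⟨(CharP.char_is_prime_or_zero K p).resolve_right (CharP.char_ne_zero_of_finite K p)⟩
    letI := ZMod.algebra K p
    let e : (K ≃ₐ[ZMod p] K) ≃* (K ≃+* K) :=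
      { toFun := fun σ => σ.toRingEquiv
        invFun := fun σ => AlgEquiv.ofRingEquiv (f := σ) (fun a => RingHom.congr_fun
          (Subsingleton.elim ((σ : K →+* K).comp (algebraMap (ZMod p) K)) (algebraMap (ZMod p) K)) a)
        left_inv := fun σ => by ext x; rfl
        right_inv := fun σ => by ext x; rfl
        map_mul' := fun σ σ' => rfl }
    exact e.isCyclic.1 inferInstance
  let X : Subgroup D := MonoidHom.eqLocus τ (MonoidHom.id D)
  have hX : ∀ x, x ∈ X ↔ τ x = x := fun x => Iff.rfl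
  have hinjX : Function.Injective (θ.comp X.subtype) := by
    refine (injective_iff_map_eq_one _).2 fun x hx => Subtype.ext (hfixF _ ?_ x.2)
    exact hcent _ ((hker (x : D)).1 hx)
  haveI : IsCyclic X := isCyclic_of_injective _ hinjX
  obtain ⟨g, hg⟩ := IsCyclic.exists_generator (α := X)
  refine ⟨g, g.2, fun x hx => ?_⟩
  obtain ⟨i, hi⟩ := hg ⟨x, hx⟩
  exact ⟨i, congrArg Subtype.val hi⟩

end CfsgLib.RankOne
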