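import Cfsg.Agent.RankOne.Deep
import Cfsg.Agent.RankOne.SemilinearCore
import Mathlib

/-!
Rank-one set-up of 2-rank at least two, given the odd order theorem: the elements of `D` inverted by `t`
form a cyclic subgroup normalised by `D`; `C_D(t)` is cyclic over its centraliser of that subgroup.
-/

set_option autoImplicit false
set_option linter.unusedSectionVars false
set_option linter.style.haveILetI false

namespace CfsgLib.RankOne

universe u v

variable {G : Type u} {Ω : Type v} [Group G] [Finite G] [MulAction G Ω] {a : Ω} {t : G} {Q : Subgroup G}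
  (hS : Cfsg.IsRankOneSetup G Ω a t Q)
  (h2 : ∃ x y : G, x ≠ 1 ∧ y ≠ 1 ∧ x ≠ y ∧ x * x = 1 ∧ y * y = 1 ∧ x * y = y * x)

local notation "stD" => (MulAction.stabilizer G a ⊓ MulAction.stabilizer G (t • a))

include hS h2

/-- The kernel of the action of `D` on the involutions of `G_a` centralises `t`. -/
theorem commute_t_of_fix_involutions {x : G} (hx : x ∈ stD)
    (hxs : ∀ s ∈ Cfsg.involutionsIn (MulAction.stabilizer G a : Set G), x * s = s * x) :
    x * t = t * x := by
  obtain ⟨s, y, hs, -, -⟩ := exists_two_involutions hS h2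
  set X : Set G := {z | z ∈ stD ∧
    ∀ s ∈ Cfsg.involutionsIn (MulAction.stabilizer G a : Set G), z * s = s * z} with hXdef
  have hXD : X ⊆ (stD : Set G) := fun z hz => hz.1
  have hsQ : s ∈ Q := mem_Q_of_sq_eq_one hS hs.1 hs.2.2
  have h3 : ∃ b c d : Ω, b ≠ c ∧ b ≠ d ∧ c ≠ d ∧ ∀ z ∈ X, z • b = b ∧ z • c = c ∧ z • d = d := by
    refine ⟨a, t • a, s • t • a, (ta_ne hS).symm,
      fun h => ta_ne hS ((smul_left_cancel_iff s).1 (h.symm.trans (Q_smul_a hS hsQ).symm)),
      fun h => hs.2.1 (eq_one_of_smul_ta hS hsQ h.symm), fun z hz => ?_⟩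
    have h1 : z • t • a = t • a := (Subgroup.mem_inf.1 hz.1).2
    exact ⟨(Subgroup.mem_inf.1 hz.1).1, h1, by rw [← mul_smul, hz.2 s hs, mul_smul, h1]⟩
  obtain ⟨l, hl, hlX⟩ := exists_conj_centralizer_t hS hXD h3
  have hmem : l⁻¹ * x * l ∈ X := by
    refine ⟨mul_mem (mul_mem (inv_mem hl) hx) hl, fun w hw => ?_⟩
    have hc : l * w * l⁻¹ ∈ Cfsg.involutionsIn (MulAction.stabilizer G a : Set G) := by
      have := conj_mem_involutions hS (g := l⁻¹) (inv_mem (Subgroup.mem_inf.1 hl).1) hw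
      rwa [inv_inv] at this
    calc l⁻¹ * x * l * w = l⁻¹ * (x * (l * w * l⁻¹)) * l := by group
      _ = l⁻¹ * ((l * w * l⁻¹) * x) * l := by rw [hxs _ hc]
      _ = _ := by group
  have h := hlX _ hmem
  rwa [show l * (l⁻¹ * x * l) * l⁻¹ = x by group] at h

/-- The structure of the inverted elements. -/
theorem inverted_structure (hFT : FT.OddSolvable.{u}) :
    (∃ c : G, Cfsg.invertedBy stD t = (Subgroup.zpowers c : Set G)) ∧
      (∀ d ∈ stD, ∀ c ∈ Cfsg.invertedBy stD t, d * c * d⁻¹ ∈ Cfsg.invertedBy stD t) ∧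
      ∃ v ∈ stD ⊓ Subgroup.centralizer {t}, ∀ y ∈ stD ⊓ Subgroup.centralizer {t}, ∃ i : ℤ,
        ∀ c ∈ Cfsg.invertedBy stD t, Commute ((v ^ i)⁻¹ * y) c := by
  classical
  let V : Subgroup G :=
    { carrier := {x | x ∈ MulAction.stabilizer G a ∧ x * x = 1}
      one_mem' := ⟨one_mem _, one_mul 1⟩
      inv_mem' := fun {x} hx => ⟨inv_mem hx.1, by rw [← mul_inv_rev, hx.2, inv_one]⟩
      mul_mem' := fun {x y} hx hy => by
        refine ⟨mul_mem hx.1 hy.1, ?_⟩
        rcases eq_or_ne x 1 with rfl | hx1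
        · rw [one_mul]; exact hy.2
        rcases eq_or_ne y 1 with rfl | hy1
        · rw [mul_one]; exact hx.2
        have e := (involution_central hS h2 ⟨hx.1, hx1, hx.2⟩).2 y
          (involution_central hS h2 ⟨hy.1, hy1, hy.2⟩).1
        calc x * y * (x * y) = x * (y * x) * y := by group
          _ = (x * x) * (y * y) := by rw [← e]; group
          _ = 1 := by rw [hx.2, hy.2, one_mul] }
  have hV : ∀ {x}, x ∈ V ↔ x ∈ MulAction.stabilizer G a ∧ x * x = 1 := Iff.rfl
  have hVI : ∀ {x}, x ∈ V → x ≠ 1 → x ∈ Cfsg.involutionsIn (MulAction.stabilizer G a : Set G) :=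
    fun hx h1 => ⟨hx.1, h1, hx.2⟩
  have hIV : ∀ {x}, x ∈ Cfsg.involutionsIn (MulAction.stabilizer G a : Set G) → x ∈ V :=
    fun hx => ⟨hx.1, hx.2.2⟩
  letI : CommGroup V :=
    { (inferInstance : Group V) with
      mul_comm := fun x y => Subtype.ext (by
        rcases eq_or_ne (x : G) 1 with hx | hx
        · show (x : G) * y = y * x
          rw [hx, one_mul, mul_one]
        rcases eq_or_ne (y : G) 1 with hy | hy
        · show (x : G) * y = y * x
          rw [hy, one_mul, mul_one]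
        exact (involution_central hS h2 (hVI x.2 hx)).2 _ (involution_central hS h2 (hVI y.2 hy)).1) }
  have hnorm : ∀ d ∈ stD, ∀ x ∈ V, d * x * d⁻¹ ∈ V := fun d hd x hx =>
    ⟨mul_mem (mul_mem (Subgroup.mem_inf.1 hd).1 hx.1) (inv_mem (Subgroup.mem_inf.1 hd).1), by
      rw [show d * x * d⁻¹ * (d * x * d⁻¹) = d * (x * x) * d⁻¹ by group, hx.2]; group⟩
  let φ : ↥stD →* MulAut V :=
    { toFun := fun d =>
        { toFun := fun x => ⟨d * x * (d : G)⁻¹, hnorm _ d.2 _ x.2⟩
          invFun := fun x => ⟨(d : G)⁻¹ * x * d, by simpa using hnorm _ (inv_mem d.2) _ x.2⟩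
          left_inv := fun x => Subtype.ext (by group)
          right_inv := fun x => Subtype.ext (by group)
          map_mul' := fun x y => Subtype.ext (by
            show (d : G) * (x * y) * (d : G)⁻¹ = (d * x * (d : G)⁻¹) * (d * y * (d : G)⁻¹)
            group) }
      map_one' := MulEquiv.ext fun x => Subtype.ext (by
        show (1 : G) * x * (1 : G)⁻¹ = x
        group)
      map_mul' := fun c d => MulEquiv.ext fun x => Subtype.ext (by
        show ((c : G) * d) * x * ((c : G) * d)⁻¹ = c * (d * x * (d : G)⁻¹) * (c : G)⁻¹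
        group) }
  have hker : ∀ d, φ d = 1 ↔
      ∀ s ∈ Cfsg.involutionsIn (MulAction.stabilizer G a : Set G), (d : G) * s = s * d := by
    refine fun d => ⟨fun h s hs => mul_inv_eq_iff_eq_mul.1
      (congrArg Subtype.val (MulEquiv.congr_fun h ⟨s, hIV hs⟩)), fun h => MulEquiv.ext fun x =>
        Subtype.ext ?_⟩
    show (d : G) * x * (d : G)⁻¹ = x
    rcases eq_or_ne (x : G) 1 with hx | hx
    · rw [hx]; group
    · rw [h _ (hVI x.2 hx), mul_inv_cancel_right]
  have hKt : ∀ d, φ d = 1 → (d : G) * t = t * d := fun d hd =>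
    commute_t_of_fix_involutions hS h2 d.2 ((hker d).1 hd)
  have htD : ∀ d : ↥stD, t * (d : G) * t ∈ stD := fun d => t_norm_D hS d.2
  let T : ↥stD →* ↥stD :=
    { toFun := fun d => ⟨t * d * t, htD d⟩
      map_one' := Subtype.ext (by show t * 1 * t = 1; rw [mul_one, hS.mul_self])
      map_mul' := fun c d => Subtype.ext (by
        show t * (c * d) * t = (t * c * t) * (t * d * t)
        simp only [mul_assoc]
        rw [← mul_assoc t t, hS.mul_self, one_mul]) }
  have hTT : ∀ d, T (T d) = d := fun d => Subtype.ext (by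
    show t * (t * d * t) * t = d
    simp only [← mul_assoc, hS.mul_self, one_mul]
    rw [mul_assoc, hS.mul_self, mul_one])
  have hTker : ∀ d, φ d = 1 → φ (T d) = 1 := fun d hd => by
    have : T d = d := Subtype.ext (by
      show t * d * t = d
      rw [← hKt d hd, mul_assoc, hS.mul_self, mul_one])
    rw [this, hd]
  set π := φ.rangeRestrict with hπdef
  have hπ : Function.Surjective π := φ.rangeRestrict_surjective
  have hπker : ∀ d, π d = 1 ↔ φ d = 1 := fun d => Subtype.ext_iff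
  let τ : φ.range →* φ.range := π.liftOfSurjective hπ ⟨π.comp T, fun d hd => by
    rw [MonoidHom.mem_ker, MonoidHom.comp_apply, hπker]
    exact hTker d ((hπker d).1 hd)⟩
  have hτ : ∀ d, τ (π d) = π (T d) := fun d => MonoidHom.liftOfRightInverse_comp_apply _ _ _ _ d
  have hττ : ∀ x, τ (τ x) = x := fun x => by
    obtain ⟨d, rfl⟩ := hπ x
    rw [hτ, hτ, hTT]
  have hoddbar : Odd (Nat.card φ.range) := hS.odd_card.of_dvd_nat (Subgroup.card_range_dvd φ)
  haveI : Group.IsSolvable φ.range := hFT _ hoddbar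
  letI : DistribMulAction φ.range (Additive V) :=
    { smul := fun x e => Additive.ofMul ((x : MulAut V) (Additive.toMul e))
      one_smul := fun e => rfl
      mul_smul := fun x y e => rfl
      smul_zero := fun x => congrArg Additive.ofMul (map_one (x : MulAut V))
      smul_add := fun x e f => congrArg Additive.ofMul (map_mul (x : MulAut V) _ _) }
  haveI : FaithfulSMul φ.range (Additive V) :=
    ⟨fun {x y} h => Subtype.ext (MulEquiv.ext fun e => h (Additive.ofMul e))⟩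
  obtain ⟨s, r, hs, hr, hsr⟩ := exists_structure hS
  let e₀ : Additive V := Additive.ofMul ⟨s, hIV hs⟩
  have he₀ : e₀ ≠ 0 := fun h => hs.2.1 (congrArg Subtype.val h)
  haveI : Nontrivial (Additive V) := ⟨⟨e₀, 0, he₀⟩⟩
  have hE : ∀ e : Additive V, 2 • e = 0 := fun e => by
    rw [two_nsmul]; exact Subtype.ext (Additive.toMul e).2.2
  have htrans : ∀ x y : Additive V, x ≠ 0 → y ≠ 0 → ∃ d : φ.range, d • x = y := by
    intro x y hx hy
    have hne : ∀ {z : Additive V}, z ≠ 0 → ((Additive.toMul z : V) : G) ≠ 1 := fun hz h =>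
      hz (Subtype.ext h)
    obtain ⟨k, hk, e⟩ := conj_inverted_surjective hS (hVI (Additive.toMul x).2 (hne hx))
      (hVI (Additive.toMul y).2 (hne hy))
    refine ⟨π ⟨k⁻¹, inv_mem hk.1⟩, Subtype.ext ?_⟩
    show k⁻¹ * _ * k⁻¹⁻¹ = _
    rw [inv_inv]
    exact e
  have hodec := fun d : ↥stD => exists_decomp (X := stD) hS.mul_self hS.odd_card
    (fun x hx => t_norm_D hS hx) d.2
  have hsq1 : ∀ x : φ.range, x * x = 1 → x = 1 := by
    intro x hx
    obtain ⟨k, hk⟩ := hoddbar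
    calc x = (x * x) ^ (k + 1) := by
          rw [← pow_two, ← pow_mul, show 2 * (k + 1) = Nat.card φ.range + 1 by omega, pow_succ,
            pow_card_eq_one', one_mul]
      _ = 1 := by rw [hx, one_pow]
  have hfixlift : ∀ x, τ x = x → ∃ y : ↥stD, (y : G) * t = t * y ∧ π y = x := by
    intro x hx
    obtain ⟨d, rfl⟩ := hπ x
    obtain ⟨y, hy, z, hz, hyt, hzt, hd⟩ := hodec d
    refine ⟨⟨y, hy⟩, hyt.symm, ?_⟩
    have hd' : d = ⟨y, hy⟩ * ⟨z, hz⟩ := Subtype.ext hd
    have hTy : T ⟨y, hy⟩ = ⟨y, hy⟩ := Subtype.ext (by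
      show t * y * t = y
      rw [hyt, mul_assoc, hS.mul_self, mul_one])
    have hTz : T ⟨z, hz⟩ = ⟨z, hz⟩⁻¹ := Subtype.ext hzt
    rw [hτ, hd', map_mul T, hTy, hTz, map_mul, map_mul, mul_right_inj, map_inv] at hx
    have hz1 : π ⟨z, hz⟩ = 1 := hsq1 _ (by nth_rewrite 1 [← hx]; exact inv_mul_cancel _)
    rw [hd', map_mul, hz1, mul_one]
  have hfix : ∀ x, τ x = x → x • e₀ = e₀ := by
    intro x hx
    obtain ⟨y, hy, rfl⟩ := hfixlift x hx
    have hmem : (y : G) ∈ stD ⊓ Subgroup.centralizer {t} :=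
      Subgroup.mem_inf.2 ⟨y.2, Subgroup.mem_centralizer_singleton_iff.2 hy⟩
    rw [centralizer_eq_of_structure hS hs.1 hr hsr, Subgroup.mem_inf (p := stD),
      Subgroup.mem_centralizer_singleton_iff] at hmem
    refine Subtype.ext ?_
    show (y : G) * s * (y : G)⁻¹ = s
    exact mul_inv_eq_iff_eq_mul.2 hmem.2
  obtain ⟨hcyc, hinv, g, hg, hgfix⟩ :=
    semilinear_core hoddbar hE htrans τ hττ he₀ hfix
  -- the inverted elements
  have hπinv : ∀ c (hc : c ∈ Cfsg.invertedBy stD t), τ (π ⟨c, hc.1⟩) = (π ⟨c, hc.1⟩)⁻¹ := by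
    intro c hc
    rw [hτ, ← map_inv]
    exact congrArg π (Subtype.ext ((mem_inverted_iff hS).1 hc).2)
  have hsqG : ∀ (x y : G), x ∈ stD → x * x * y = y * (x * x) → Commute x y := fun x y hx h =>
    commute_of_sq_commute hS.odd_card hx h
  have hKC : ∀ c ∈ Cfsg.invertedBy stD t, ∀ k : ↥stD, φ k = 1 → Commute c k := by
    intro c hc k hk
    obtain ⟨hcD, hct⟩ := (mem_inverted_iff hS).1 hc
    have h1 : φ (⟨c, hcD⟩ * k * ⟨c, hcD⟩⁻¹) = 1 := by rw [map_mul, map_mul, hk, map_inv]; group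
    have h3 := hKt _ h1
    push_cast at h3
    have h4 : c⁻¹ * (k : G) * c = c * k * c⁻¹ := by
      calc c⁻¹ * (k : G) * c = (t * c * t) * k * (t * c * t)⁻¹ := by rw [hct]; group
        _ = t * c * (t * k) * t⁻¹ * c⁻¹ * t⁻¹ := by group
        _ = t * c * (k * t) * t⁻¹ * c⁻¹ * t⁻¹ := by rw [hKt k hk]
        _ = t * (c * k * c⁻¹) * t⁻¹ := by group
        _ = _ := by rw [← h3]; group
    refine hsqG c k hcD ?_
    calc c * c * (k : G) = c * (c * k * c⁻¹) * c := by group
      _ = c * (c⁻¹ * k * c) * c := by rw [h4]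
      _ = _ := by group
  obtain ⟨⟨f, hf⟩, hfgen⟩ := IsCyclic.exists_generator (α := ↥(Cfsg.fittingSubgroup φ.range))
  obtain ⟨d, hd⟩ := hπ f
  obtain ⟨y, hy, z, hz, hyt, hzt, hdyz⟩ := hodec d
  have hzC : z ∈ Cfsg.invertedBy stD t := (mem_inverted_iff hS).2 ⟨hz, hzt⟩
  have hπz : π ⟨z, hz⟩ = f := by
    have h1 := hπinv z hzC
    have h2 : f * (π ⟨z, hz⟩)⁻¹ = π ⟨y, hy⟩ := by
      rw [← hd, show d = ⟨y, hy⟩ * ⟨z, hz⟩ from Subtype.ext hdyz, map_mul, mul_inv_cancel_right]
    have h3 : π ⟨y, hy⟩ ∈ Cfsg.fittingSubgroup φ.range := h2 ▸ mul_mem hf (inv_mem ((hinv _).1 h1))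
    have h4 : τ (π ⟨y, hy⟩) = π ⟨y, hy⟩ := by
      rw [hτ]
      exact congrArg π (Subtype.ext (by
        show t * y * t = y
        rw [hyt, mul_assoc, hS.mul_self, mul_one]))
    have h5 : π ⟨y, hy⟩ = 1 := hsq1 _ (by
      have := (hinv _).2 h3
      rw [h4] at this
      nth_rewrite 1 [this]
      exact inv_mul_cancel _)
    rw [h5, mul_inv_eq_one] at h2
    exact h2.symm
  have hzpow : ∀ j : ℤ, z ^ j ∈ Cfsg.invertedBy stD t := by
    intro j
    refine (mem_inverted_iff hS).2 ⟨zpow_mem hz j, ?_⟩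
    have h := conj_zpow (a := t) (b := z) (i := j)
    rw [t_inv hS, hzt, inv_zpow] at h
    exact h.symm
  have hC : Cfsg.invertedBy stD t = (Subgroup.zpowers z : Set G) := by
    ext c
    refine ⟨fun hc => ?_, fun ⟨j, hj⟩ => hj ▸ hzpow j⟩
    obtain ⟨hcD, hct⟩ := (mem_inverted_iff hS).1 hc
    obtain ⟨j, hj⟩ := hfgen ⟨_, (hinv _).1 (hπinv c hc)⟩
    have hj' : π (⟨z, hz⟩ ^ j) = π ⟨c, hcD⟩ := by
      rw [map_zpow, hπz]
      exact congrArg Subtype.val hj
    let k : ↥stD := (⟨c, hcD⟩)⁻¹ * ⟨z, hz⟩ ^ j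
    have hk : φ k = 1 := (hπker k).1 (by rw [map_mul, map_inv, hj', inv_mul_cancel])
    have hkval : (k : G) = c⁻¹ * z ^ j := rfl
    have hck : Commute c k := hKC c hc k hk
    have h1 : t * (k : G) * t = (k : G)⁻¹ := by
      have hjt := ((mem_inverted_iff hS).1 (hzpow j)).2
      have hci : t * c⁻¹ * t = c := by
        have h := congrArg (·⁻¹) hct
        simp only [mul_inv_rev, inv_inv, t_inv hS] at h
        rw [mul_assoc]; exact h
      calc t * (k : G) * t = (t * c⁻¹ * t) * (t * z ^ j * t) := by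
            rw [hkval]; simp only [mul_assoc]; rw [← mul_assoc t t, hS.mul_self, one_mul]
        _ = c * (c * k)⁻¹ := by rw [hci, hjt, hkval]; group
        _ = _ := by rw [hck.eq]; group
    have h2 : (k : G) = 1 := by
      refine sq_injOn (X := stD) hS.odd_card k.2 (one_mem _) ?_
      have h3 : t * (k : G) * t = k := by rw [← hKt k hk, mul_assoc, hS.mul_self, mul_one]
      rw [h3] at h1
      rw [one_mul]
      nth_rewrite 1 [h1]
      exact inv_mul_cancel _
    rw [hkval, inv_mul_eq_one] at h2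
    exact ⟨j, h2.symm⟩
  have hnC : ∀ d ∈ stD, ∀ c ∈ Cfsg.invertedBy stD t, d * c * d⁻¹ ∈ Cfsg.invertedBy stD t := by
    intro d hd c hc
    obtain ⟨y', hy', z', hz', hyt', hzt', rfl⟩ :=
      exists_decomp (X := stD) hS.mul_self hS.odd_card (fun x hx => t_norm_D hS hx) hd
    have h1 : z' * c = c * z' := by
      have hz'' : z' ∈ (Subgroup.zpowers z : Set G) := hC ▸ (mem_inverted_iff hS).2 ⟨hz', hzt'⟩
      obtain ⟨i, rfl⟩ := hz''
      obtain ⟨j, rfl⟩ : c ∈ (Subgroup.zpowers z : Set G) := hC ▸ hc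
      exact (Commute.zpow_zpow (Commute.refl z) i j).eq
    obtain ⟨hcD, hct⟩ := (mem_inverted_iff hS).1 hc
    rw [show y' * z' * c * (y' * z')⁻¹ = y' * (z' * c * z'⁻¹) * y'⁻¹ by group, h1,
      mul_inv_cancel_right]
    refine (mem_inverted_iff hS).2 ⟨mul_mem (mul_mem hy' hcD) (inv_mem hy'), ?_⟩
    have hyi : t * y'⁻¹ = y'⁻¹ * t := (Commute.inv_right (show Commute t y' from hyt')).eq
    calc t * (y' * c * y'⁻¹) * t = (t * y') * c * (y'⁻¹ * t) := by group
      _ = (y' * t) * c * (t * y'⁻¹) := by rw [hyt', hyi]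
      _ = y' * (t * c * t) * y'⁻¹ := by group
      _ = _ := by rw [hct]; group
  refine ⟨⟨z, hC⟩, hnC, ?_⟩
  obtain ⟨v, hv, hπv⟩ := hfixlift g hg
  refine ⟨v, Subgroup.mem_inf.2 ⟨v.2, Subgroup.mem_centralizer_singleton_iff.2 hv⟩, fun y' hy' => ?_⟩
  obtain ⟨hy'D, hy't⟩ := Subgroup.mem_inf.1 hy'
  rw [Subgroup.mem_centralizer_singleton_iff] at hy't
  have h1 : τ (π ⟨y', hy'D⟩) = π ⟨y', hy'D⟩ := by
    rw [hτ]
    exact congrArg π (Subtype.ext (by
      show t * y' * t = y'
      rw [← hy't, mul_assoc, hS.mul_self, mul_one]))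
  obtain ⟨i, hi⟩ := hgfix _ h1
  refine ⟨i, fun c hc => ?_⟩
  have hk : φ ((v ^ i)⁻¹ * ⟨y', hy'D⟩) = 1 := (hπker _).1 (by
    rw [map_mul, map_inv, map_zpow, hπv, ← hi]
    exact inv_mul_cancel _)
  have := hKC c hc _ hk
  exact (this.symm : _)

end CfsgLib.RankOne
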