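import Cfsg.Agent.RankOne.CyclicInverted
import Mathlib

/-!
S1131, S1132, S1133, given the odd order theorem.
-/

set_option autoImplicit false
set_option linter.unusedSectionVars false
set_option linter.style.haveILetI false

namespace CfsgLib.RankOne

universe u v

variable {G : Type u} {Ω : Type v} [Group G] [Finite G] [MulAction G Ω] {a : Ω} {t : G} {Q : Subgroup G}
  (hS : Cfsg.IsRankOneSetup G Ω a t Q)
  (h2 : ∃ x y : G, x ≠ 1 ∧ y ≠ 1 ∧ x ≠ y ∧ x * x = 1 ∧ y * y = 1 ∧ x * y = y * x)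

local notation "stD" => (MulAction.stabilizer G a ⊓ MulAction.stabilizer G (t • a))

include hS h2

theorem inverted_cyclic (hFT : FT.OddSolvable.{u}) :
    ∃ C : Subgroup G, (C : Set G) = Cfsg.invertedBy stD t ∧ IsCyclic C ∧
      ∀ d ∈ stD, ∀ c ∈ C, d * c * d⁻¹ ∈ C := by
  obtain ⟨⟨z, hz⟩, hn, -⟩ := inverted_structure hS h2 hFT
  refine ⟨Subgroup.zpowers z, hz.symm, inferInstance, fun d hd c hc => ?_⟩
  have hc' : c ∈ Cfsg.invertedBy stD t := by
    rw [hz]
    exact hc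
  have h := hn d hd c hc'
  rw [hz] at h
  exact h

theorem centralizer_quotient_cyclic (hFT : FT.OddSolvable.{u}) :
    ∃ v ∈ stD ⊓ Subgroup.centralizer {t},
      (stD ⊓ Subgroup.centralizer {t} ⊓ Subgroup.centralizer (Cfsg.invertedBy stD t)) ⊔
          Subgroup.closure {v} = stD ⊓ Subgroup.centralizer {t} := by
  obtain ⟨-, -, v, hv, h⟩ := inverted_structure hS h2 hFT
  refine ⟨v, hv, ?_⟩
  generalize Cfsg.invertedBy stD t = I at h ⊢
  generalize (stD ⊓ Subgroup.centralizer {t}) = W at hv h ⊢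
  apply le_antisymm
  · refine sup_le inf_le_left ((Subgroup.closure_le W).2 ?_)
    intro w hw
    rw [Set.mem_singleton_iff] at hw
    rw [hw]
    exact hv
  intro y hy
  obtain ⟨i, hi⟩ := h y hy
  have h1 : v ^ i ∈ Subgroup.closure ({v} : Set G) :=
    zpow_mem (Subgroup.subset_closure (Set.mem_singleton v)) i
  have h3 : (v ^ i)⁻¹ * y ∈ Subgroup.centralizer I :=
    Subgroup.mem_centralizer_iff.2 fun c hc => (hi c hc).eq.symm
  have h4 : (v ^ i)⁻¹ * y ∈ W ⊓ Subgroup.centralizer I :=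
    Subgroup.mem_inf.2 ⟨mul_mem (inv_mem (zpow_mem hv i)) hy, h3⟩
  rw [show y = v ^ i * ((v ^ i)⁻¹ * y) by group]
  exact mul_mem (Subgroup.mem_sup_right h1) (Subgroup.mem_sup_left h4)

theorem sylow_suzuki (hFT : FT.OddSolvable.{u}) (S : Sylow 2 ↥Q) :
    IsMulCommutative (S : Subgroup ↥Q) ∨ Cfsg.IsSuzukiTwoGroup ↥(S : Subgroup ↥Q) := by
  classical
  haveI : Fact (Nat.Prime 2) := ⟨Nat.prime_two⟩
  by_cases hab : IsMulCommutative (S : Subgroup ↥Q)
  · exact Or.inl hab
  refine Or.inr ⟨inferInstance, S.isPGroup', ?_, ?_, ?_⟩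
  · by_contra h
    push Not at h
    exact hab ⟨⟨h⟩⟩
  all_goals
    haveI := isNilpotent_Q hS h2
    haveI hSn : (S : Subgroup ↥Q).Normal := inferInstance
    haveI hSc : (S : Subgroup ↥Q).Characteristic := S.characteristic_of_normal inferInstance
    have hlift : ∀ s ∈ Cfsg.involutionsIn (MulAction.stabilizer G a : Set G),
        ∃ x : (S : Subgroup ↥Q), ((x : ↥Q) : G) = s := by
      intro s hs
      have hsQ : s ∈ Q := mem_Q_of_sq_eq_one hS hs.1 hs.2.2
      have hp : IsPGroup 2 (Subgroup.zpowers (⟨s, hsQ⟩ : ↥Q)) :=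
        IsPGroup.of_card (n := 1) (by
          rw [Nat.card_zpowers, pow_one]
          exact orderOf_eq_prime (Subtype.ext (by simpa [pow_two] using hs.2.2))
            (fun h => hs.2.1 (congrArg Subtype.val h)))
      obtain ⟨T, hT⟩ := hp.exists_le_sylow
      haveI := Sylow.unique_of_normal S hSn
      obtain rfl : T = S := Subsingleton.elim _ _
      exact ⟨⟨_, hT (Subgroup.mem_zpowers _)⟩, rfl⟩
    have hinvol : ∀ x : (S : Subgroup ↥Q), x ≠ 1 → x * x = 1 →
        ((x : ↥Q) : G) ∈ Cfsg.involutionsIn (MulAction.stabilizer G a : Set G) := fun x h1 hx =>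
      ⟨hS.le x.1.2, fun h => h1 (Subtype.ext (Subtype.ext h)),
        congrArg (fun w : (S : Subgroup ↥Q) => ((w : ↥Q) : G)) hx⟩
  · obtain ⟨x, y, hx, hy, hne⟩ := exists_two_involutions hS h2
    obtain ⟨x', rfl⟩ := hlift x hx
    obtain ⟨y', rfl⟩ := hlift y hy
    exact ⟨x', y', fun h => hne (by rw [h]), fun h => hx.2.1 (by rw [h]; rfl),
      Subtype.ext (Subtype.ext hx.2.2), fun h => hy.2.1 (by rw [h]; rfl),
      Subtype.ext (Subtype.ext hy.2.2)⟩
  obtain ⟨⟨z, hz⟩, -, -⟩ := inverted_structure hS h2 hFT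
  have hzD : ∀ c ∈ Subgroup.zpowers z, c ∈ stD := fun c hc =>
    ((mem_inverted_iff hS).1 (show c ∈ Cfsg.invertedBy stD t by rw [hz]; exact hc)).1
  have hconjQ : ∀ c ∈ Subgroup.zpowers z, ∀ q ∈ Q, c * q * c⁻¹ ∈ Q := fun c hc q hq =>
    D_norm_Q hS (hzD c hc) hq
  let ψ : ↥(Subgroup.zpowers z) →* MulAut ↥Q :=
    { toFun := fun c =>
        { toFun := fun q => ⟨c * q * (c : G)⁻¹, hconjQ _ c.2 _ q.2⟩
          invFun := fun q => ⟨(c : G)⁻¹ * q * c, by simpa using hconjQ _ (inv_mem c.2) _ q.2⟩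
          left_inv := fun q => Subtype.ext (by group)
          right_inv := fun q => Subtype.ext (by group)
          map_mul' := fun q q' => Subtype.ext (by
            show (c : G) * (q * q') * (c : G)⁻¹ = (c * q * (c : G)⁻¹) * (c * q' * (c : G)⁻¹)
            group) }
      map_one' := MulEquiv.ext fun q => Subtype.ext (by
        show (1 : G) * q * (1 : G)⁻¹ = q
        group)
      map_mul' := fun c d => MulEquiv.ext fun q => Subtype.ext (by
        show ((c : G) * d) * q * ((c : G) * d)⁻¹ = c * (d * q * (d : G)⁻¹) * (c : G)⁻¹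
        group) }
  have hmem : ∀ (c : ↥(Subgroup.zpowers z)) (q : ↥Q), q ∈ (S : Subgroup ↥Q) →
      ψ c q ∈ (S : Subgroup ↥Q) := fun c q hq =>
    (SetLike.ext_iff.1 (Subgroup.Characteristic.fixed hSc (ψ c)) q).2 hq
  let ω : ↥(Subgroup.zpowers z) →* MulAut ↥(S : Subgroup ↥Q) :=
    { toFun := fun c =>
        { toFun := fun x => ⟨ψ c x, hmem c x x.2⟩
          invFun := fun x => ⟨ψ c⁻¹ x, hmem c⁻¹ x x.2⟩
          left_inv := fun x => Subtype.ext (by
            show ψ c⁻¹ (ψ c x) = x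
            rw [← MulAut.mul_apply, ← map_mul, inv_mul_cancel, map_one, MulAut.one_apply])
          right_inv := fun x => Subtype.ext (by
            show ψ c (ψ c⁻¹ x) = x
            rw [← MulAut.mul_apply, ← map_mul, mul_inv_cancel, map_one, MulAut.one_apply])
          map_mul' := fun x y => Subtype.ext (map_mul (ψ c) _ _) }
      map_one' := MulEquiv.ext fun x => Subtype.ext (by
        show ψ 1 x = x
        rw [map_one]; rfl)
      map_mul' := fun c d => MulEquiv.ext fun x => Subtype.ext (by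
        show ψ (c * d) x = ψ c (ψ d x)
        rw [map_mul]; rfl) }
  haveI : IsCyclic ω.range := isCyclic_of_surjective _ ω.rangeRestrict_surjective
  refine ⟨ω.range, inferInstance, fun x y hx hx2 hy hy2 => ?_⟩
  obtain ⟨k, hk, hkxy⟩ := conj_inverted_surjective hS (hinvol x hx hx2) (hinvol y hy hy2)
  have hkz : k ∈ Subgroup.zpowers z := by
    have := hk
    rw [hz] at this
    exact this
  refine ⟨⟨ω ⟨k, hkz⟩⁻¹, MonoidHom.mem_range.2 ⟨_, rfl⟩⟩, Subtype.ext (Subtype.ext ?_), ?_⟩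
  · show k⁻¹ * _ * k⁻¹⁻¹ = _
    rw [inv_inv]
    exact hkxy
  rintro ⟨_, ⟨c, hc, rfl⟩⟩ hcxy
  obtain ⟨s, r, hs, hr, e⟩ := exists_structure hS
  obtain ⟨k₀, hk₀, e₀⟩ := conj_inverted_surjective hS hs (hinvol x hx hx2)
  have hci : (c : G)⁻¹ ∈ Cfsg.invertedBy stD t := by
    rw [hz]
    exact inv_mem c.2
  have heq : (c : G)⁻¹ = k := by
    refine conj_inverted_injective hS hs.1 hr e hk₀ hci hk ?_
    rw [e₀, hkxy, inv_inv]
    exact congrArg (fun w : (S : Subgroup ↥Q) => ((w : ↥Q) : G)) hcxy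
  have hc' : c = ⟨k, hkz⟩⁻¹ := Subtype.ext (by
    show (c : G) = k⁻¹
    rw [← heq, inv_inv])
  subst hc'
  rfl

end CfsgLib.RankOne
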