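import Cfsg.Agent.RankOne.Basic

/-!
Fixed points of subsets of the two-point stabiliser, and normal subgroups of odd order, in the rank-one set-up.
-/

set_option autoImplicit false
set_option linter.unusedSectionVars false
set_option linter.style.haveILetI false

namespace CfsgLib.RankOne

variable {G Ω : Type*} [Group G] [Finite G] [MulAction G Ω] {a : Ω} {t : G} {Q : Subgroup G}
  (hS : Cfsg.IsRankOneSetup G Ω a t Q)

local notation "stD" => (MulAction.stabilizer G a ⊓ MulAction.stabilizer G (t • a))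

include hS

theorem Q_centralizes {X : Set G} (hX : X ⊆ (stD : Set G)) {b : Ω} (hba : b ≠ a)
    (hb : ∀ x ∈ X, x • b = b) : ∃ q ∈ Q, q ∈ Subgroup.centralizer X ∧ q • (t • a) = b := by
  obtain ⟨q, hq, hqb⟩ := exists_Q_smul hS hba
  refine ⟨q, hq, ?_, hqb⟩
  rw [Subgroup.mem_centralizer_iff]
  intro x hx
  have hxD : x ∈ stD := hX hx
  have h1 : (x * q * x⁻¹) • (t • a) = q • (t • a) := by
    have : x⁻¹ • t • a = t • a := inv_smul_eq_iff.2 (Subgroup.mem_inf.1 hxD).2.symm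
    rw [mul_smul, mul_smul, this, hqb, hb x hx]
  exact mul_inv_eq_iff_eq_mul.1 (Q_smul_inj hS (D_norm_Q hS hxD hq) hq h1)

/-- The same for `t Q t`, fixing `t • a`. -/
theorem tQt_centralizes {X : Set G} (hX : X ⊆ (stD : Set G)) {b : Ω} (hb' : b ≠ t • a)
    (hb : ∀ x ∈ X, x • b = b) : ∃ g ∈ Subgroup.centralizer X, g • a = b ∧ g • (t • a) = t • a := by
  have hX' : (fun x => t * x * t) '' X ⊆ (stD : Set G) := by
    rintro _ ⟨x, hx, rfl⟩; exact t_norm_D hS (hX hx)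
  have hne : t • b ≠ a := fun h => hb' (by rw [← h, ← mul_smul, hS.mul_self, one_smul])
  obtain ⟨q, hq, hqc, hqb⟩ := Q_centralizes hS hX' hne (by
    rintro _ ⟨x, hx, rfl⟩
    rw [mul_smul, mul_smul, ← mul_smul t t b, hS.mul_self, one_smul, hb x hx])
  refine ⟨t * q * t, ?_, ?_, ?_⟩
  · rw [Subgroup.mem_centralizer_iff]
    intro x hx
    have h := Subgroup.mem_centralizer_iff.1 hqc _ ⟨x, hx, rfl⟩
    calc x * (t * q * t) = t * (t * x * t * q) * t := by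
          simp only [← mul_assoc, hS.mul_self, one_mul]
      _ = t * (q * (t * x * t)) * t := by rw [h]
      _ = t * q * t * x := by
          simp only [mul_assoc, hS.mul_self, mul_one]
  · rw [mul_smul, mul_smul, hqb, ← mul_smul, hS.mul_self, one_smul]
  · rw [mul_smul, mul_smul, t_ta hS, Q_smul_a hS hq]

theorem smul_fixed {X : Set G} {g : G} (hg : g ∈ Subgroup.centralizer X) {b : Ω}
    (hb : ∀ x ∈ X, x • b = b) : ∀ x ∈ X, x • (g • b) = g • b := by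
  intro x hx
  rw [← mul_smul, Subgroup.mem_centralizer_iff.1 hg x hx, mul_smul, hb x hx]

/-- A point fixed by `X`, other than `a` and `t • a`. -/
theorem exists_third {X : Set G}
    (h3 : ∃ b c d : Ω, b ≠ c ∧ b ≠ d ∧ c ≠ d ∧ ∀ x ∈ X, x • b = b ∧ x • c = c ∧ x • d = d) :
    ∃ p : Ω, p ≠ a ∧ p ≠ t • a ∧ ∀ x ∈ X, x • p = p := by
  obtain ⟨b, c, d, hbc, hbd, hcd, h⟩ := h3
  by_cases h1 : b ≠ a ∧ b ≠ t • a
  · exact ⟨b, h1.1, h1.2, fun x hx => (h x hx).1⟩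
  by_cases h2 : c ≠ a ∧ c ≠ t • a
  · exact ⟨c, h2.1, h2.2, fun x hx => (h x hx).2.1⟩
  refine ⟨d, ?_, ?_, fun x hx => (h x hx).2.2⟩ <;>
  · intro hd
    subst hd
    rcases not_and_or.1 h1 with e1 | e1 <;> rcases not_and_or.1 h2 with e2 | e2 <;>
      rw [not_not] at e1 e2 <;> simp_all

theorem centralizer_two_transitive {X : Set G} (hX : X ⊆ (stD : Set G))
    (h3 : ∃ b c d : Ω, b ≠ c ∧ b ≠ d ∧ c ≠ d ∧ ∀ x ∈ X, x • b = b ∧ x • c = c ∧ x • d = d)
    {b₁ b₂ c₁ c₂ : Ω} (hfix : ∀ x ∈ X, x • b₁ = b₁ ∧ x • b₂ = b₂ ∧ x • c₁ = c₁ ∧ x • c₂ = c₂)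
    (hb : b₁ ≠ b₂) (hc : c₁ ≠ c₂) :
    ∃ g ∈ Subgroup.centralizer X, g • b₁ = c₁ ∧ g • b₂ = c₂ := by
  obtain ⟨p, hpa, hpt, hp⟩ := exists_third hS h3
  have hX0 : ∀ x ∈ X, x • a = a := fun x hx => (Subgroup.mem_inf.1 (hX hx)).1
  -- move a fixed point to `a`
  have toA : ∀ b : Ω, (∀ x ∈ X, x • b = b) → ∃ g ∈ Subgroup.centralizer X, g • b = a := by
    intro b hb
    have step : ∀ b : Ω, b ≠ t • a → (∀ x ∈ X, x • b = b) →
        ∃ g ∈ Subgroup.centralizer X, g • b = a := by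
      intro b hb' hb
      obtain ⟨g, hg, hga, -⟩ := tQt_centralizes hS hX hb' hb
      exact ⟨g⁻¹, inv_mem hg, by rw [← hga, inv_smul_smul]⟩
    by_cases hb' : b = t • a
    · obtain ⟨q, hq, hqc, hqp⟩ := Q_centralizes hS hX hpa hp
      obtain ⟨g, hg, hgp⟩ := step p hpt hp
      exact ⟨g * q, mul_mem hg hqc, by rw [hb', mul_smul, hqp, hgp]⟩
    · exact step b hb' hb
  have toBase : ∀ b₁ b₂ : Ω, b₁ ≠ b₂ → (∀ x ∈ X, x • b₁ = b₁) → (∀ x ∈ X, x • b₂ = b₂) →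
      ∃ g ∈ Subgroup.centralizer X, g • b₁ = a ∧ g • b₂ = t • a := by
    intro b₁ b₂ hne h1 h2
    obtain ⟨g, hg, hg1⟩ := toA b₁ h1
    have hne' : g • b₂ ≠ a := fun h => hne ((smul_left_cancel_iff g).1 (hg1.trans h.symm))
    obtain ⟨q, hq, hqc, hqb⟩ := Q_centralizes hS hX hne' (smul_fixed hS hg h2)
    refine ⟨q⁻¹ * g, mul_mem (inv_mem hqc) hg, ?_, ?_⟩
    · rw [mul_smul, hg1, inv_smul_eq_iff, Q_smul_a hS hq]
    · rw [mul_smul, ← hqb, inv_smul_smul]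
  obtain ⟨g, hg, hg1, hg2⟩ := toBase b₁ b₂ hb (fun x hx => (hfix x hx).1) (fun x hx => (hfix x hx).2.1)
  obtain ⟨k, hk, hk1, hk2⟩ := toBase c₁ c₂ hc (fun x hx => (hfix x hx).2.2.1) (fun x hx => (hfix x hx).2.2.2)
  exact ⟨k⁻¹ * g, mul_mem (inv_mem hk) hg, by rw [mul_smul, hg1, ← hk1, inv_smul_smul],
    by rw [mul_smul, hg2, ← hk2, inv_smul_smul]⟩

/-- An involution centralising `X` interchanges `a` and `t • a`. -/
theorem exists_swap_centralizing {X : Set G} (hX : X ⊆ (stD : Set G))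
    (h3 : ∃ b c d : Ω, b ≠ c ∧ b ≠ d ∧ c ≠ d ∧ ∀ x ∈ X, x • b = b ∧ x • c = c ∧ x • d = d) :
    ∃ v ∈ Subgroup.centralizer X, v ≠ 1 ∧ v * v = 1 ∧ v • a = t • a := by
  have hX0 : ∀ x ∈ X, x • a = a := fun x hx => (Subgroup.mem_inf.1 (hX hx)).1
  have hX1 : ∀ x ∈ X, x • (t • a) = t • a := fun x hx => (Subgroup.mem_inf.1 (hX hx)).2
  obtain ⟨g, hg, hga, hgt⟩ := centralizer_two_transitive hS hX h3
    (b₁ := a) (b₂ := t • a) (c₁ := t • a) (c₂ := a)
    (fun x hx => ⟨hX0 x hx, hX1 x hx, hX1 x hx, hX0 x hx⟩) (ta_ne hS).symm (ta_ne hS)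
  have hg2 : g * g ∈ stD := by
    refine Subgroup.mem_inf.2 ⟨?_, ?_⟩ <;> rw [MulAction.mem_stabilizer_iff, mul_smul]
    · rw [hga, hgt]
    · rw [hgt, hga]
  obtain ⟨k, hk⟩ := hS.odd_card
  have hpow : ((g * g) ^ (2 * k + 1)) = 1 := by
    have := pow_card_eq_one' (G := ↥stD) (x := ⟨g * g, hg2⟩)
    rw [hk] at this
    exact congrArg Subtype.val this
  have hmv : g ^ (2 * k + 1) • a = t • a := by
    rw [pow_succ', pow_mul, pow_two, mul_smul,
      MulAction.mem_stabilizer_iff.1 (pow_mem (Subgroup.mem_inf.1 hg2).1 k)]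
    exact hga
  refine ⟨g ^ (2 * k + 1), pow_mem hg _, fun h => ?_, ?_, hmv⟩
  · rw [h, one_smul] at hmv
    exact ta_ne hS hmv.symm
  · rw [← (Commute.refl g).mul_pow, hpow]

theorem even_card_centralizer_Q {X : Set G} (hX : X ⊆ (stD : Set G))
    (h3 : ∃ b c d : Ω, b ≠ c ∧ b ≠ d ∧ c ≠ d ∧ ∀ x ∈ X, x • b = b ∧ x • c = c ∧ x • d = d) :
    Even (Nat.card ↥(Subgroup.centralizer X ⊓ Q)) := by
  have hX0 : ∀ x ∈ X, x • a = a := fun x hx => (Subgroup.mem_inf.1 (hX hx)).1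
  have hX1 : ∀ x ∈ X, x • (t • a) = t • a := fun x hx => (Subgroup.mem_inf.1 (hX hx)).2
  obtain ⟨v, hvc, hv1, hv2, hva⟩ := exists_swap_centralizing hS hX h3
  obtain ⟨c, hc, huniq⟩ := existsUnique_fixed hS hv1 hv2
  have hcX : ∀ x ∈ X, x • c = c := fun x hx =>
    huniq _ (by show v • x • c = x • c; rw [← mul_smul, ← Subgroup.mem_centralizer_iff.1 hvc x hx, mul_smul, hc])
  have hca : c ≠ a := fun h => ta_ne hS (by rw [← hva, ← h, hc])
  obtain ⟨g, hg, hgc, -⟩ := centralizer_two_transitive hS hX h3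
    (b₁ := c) (b₂ := a) (c₁ := a) (c₂ := t • a)
    (fun x hx => ⟨hcX x hx, hX0 x hx, hX0 x hx, hX1 x hx⟩) hca (ta_ne hS).symm
  have hs1 : g * v * g⁻¹ ≠ 1 := fun h => hv1 (by rwa [mul_inv_eq_one, mul_eq_left] at h)
  have hs2 : g * v * g⁻¹ * (g * v * g⁻¹) = 1 := by
    rw [show g * v * g⁻¹ * (g * v * g⁻¹) = g * (v * v) * g⁻¹ by group, hv2]; group
  have hsA : g * v * g⁻¹ ∈ MulAction.stabilizer G a := by
    rw [MulAction.mem_stabilizer_iff, ← hgc, mul_smul, mul_smul, inv_smul_smul, hc]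
  have hmem : g * v * g⁻¹ ∈ Subgroup.centralizer X ⊓ Q :=
    Subgroup.mem_inf.2 ⟨mul_mem (mul_mem hg hvc) (inv_mem hg), mem_Q_of_sq_eq_one hS hsA hs2⟩
  have hord : orderOf (g * v * g⁻¹) = 2 := orderOf_eq_prime (by rw [pow_two, hs2]) hs1
  rw [even_iff_two_dvd, ← hord]
  exact Subgroup.orderOf_dvd_natCard _ hmem

theorem centralizer_stab_eq {X : Set G} (hX : X ⊆ (stD : Set G)) :
    (Subgroup.centralizer X ⊓ Q) ⊔ (Subgroup.centralizer X ⊓ stD) =
      Subgroup.centralizer X ⊓ MulAction.stabilizer G a := by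
  refine le_antisymm (sup_le (inf_le_inf_left _ hS.le) (inf_le_inf_left _ inf_le_left)) ?_
  intro g hg
  obtain ⟨hgc, hga⟩ := Subgroup.mem_inf.1 hg
  rw [MulAction.mem_stabilizer_iff] at hga
  have hne : g • t • a ≠ a := fun h => ta_ne hS ((smul_left_cancel_iff g).1 (h.trans hga.symm))
  obtain ⟨q, hq, hqc, hqb⟩ := Q_centralizes hS hX hne
    (smul_fixed hS hgc fun x hx => (Subgroup.mem_inf.1 (hX hx)).2)
  have hd : q⁻¹ * g ∈ Subgroup.centralizer X ⊓ stD := by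
    refine Subgroup.mem_inf.2 ⟨mul_mem (inv_mem hqc) hgc, Subgroup.mem_inf.2 ⟨?_, ?_⟩⟩ <;>
      rw [MulAction.mem_stabilizer_iff, mul_smul, inv_smul_eq_iff]
    · rw [hga, Q_smul_a hS hq]
    · exact hqb.symm
  rw [show g = q * (q⁻¹ * g) by group]
  exact Subgroup.mul_mem_sup (Subgroup.mem_inf.2 ⟨hqc, hq⟩) hd

theorem exists_conj_centralizer_t {X : Set G} (hX : X ⊆ (stD : Set G))
    (h3 : ∃ b c d : Ω, b ≠ c ∧ b ≠ d ∧ c ≠ d ∧ ∀ x ∈ X, x • b = b ∧ x • c = c ∧ x • d = d) :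
    ∃ k ∈ stD, ∀ x ∈ X, (k * x * k⁻¹) * t = t * (k * x * k⁻¹) := by
  obtain ⟨v, hvc, hv1, hv2, hva⟩ := exists_swap_centralizing hS hX h3
  obtain ⟨k, hk, rfl⟩ := (swap_iff hS).1 ⟨hv1, hv2, hva⟩
  obtain ⟨hkD, hkt⟩ := (mem_inverted_iff hS).1 hk
  obtain ⟨i, hi⟩ := exists_sqrt (X := stD) hS.odd_card hkD
  set l := k ^ i with hl
  have hlt : t * l * t = l⁻¹ := by
    have := conj_pow (a := t) (b := k) (i := i)
    rw [t_inv hS, hkt, inv_pow] at this
    exact this.symm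
  have hv : t * k = l⁻¹ * t * l := by
    calc t * k = t * (l * l) := by rw [hi]
      _ = t * l * t * (t * l) := by
          rw [mul_assoc (t * l) t, ← mul_assoc t t, hS.mul_self, one_mul, mul_assoc]
      _ = l⁻¹ * t * l := by rw [hlt, mul_assoc]
  refine ⟨l, pow_mem hkD i, fun x hx => ?_⟩
  have := Subgroup.mem_centralizer_iff.1 hvc x hx
  rw [hv] at this
  calc l * x * l⁻¹ * t = l * (x * (l⁻¹ * t * l)) * l⁻¹ := by group
    _ = l * (l⁻¹ * t * l * x) * l⁻¹ := by rw [this]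
    _ = _ := by group

/-- A normal subgroup of odd order fixes `a`, when the 2-rank is at least two. -/
theorem le_stab_of_odd_normal
    (h2 : ∃ x y : G, x ≠ 1 ∧ y ≠ 1 ∧ x ≠ y ∧ x * x = 1 ∧ y * y = 1 ∧ x * y = y * x)
    (N : Subgroup G) [hN : N.Normal] (hodd : Odd (Nat.card N)) :
    N ≤ MulAction.stabilizer G a := by
  obtain ⟨x₀, y₀, hx1, hy1, hxy1, hx2, hy2, hxy⟩ := h2
  obtain ⟨p, hp, huniq⟩ := existsUnique_fixed hS hx1 hx2
  obtain ⟨g, hg⟩ := (pretransitive hS).exists_smul_eq p a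
  have hyp : y₀ • p = p := huniq _ (by show x₀ • y₀ • p = y₀ • p; rw [← mul_smul, hxy, mul_smul, hp])
  obtain ⟨x, hx⟩ : ∃ x, x = g * x₀ * g⁻¹ := ⟨_, rfl⟩
  obtain ⟨y, hy⟩ : ∃ y, y = g * y₀ * g⁻¹ := ⟨_, rfl⟩
  have hne : ∀ z : G, z ≠ 1 → g * z * g⁻¹ ≠ 1 := fun z hz h => hz (by
    rwa [mul_inv_eq_one, mul_eq_left] at h)
  have hsq : ∀ z : G, z * z = 1 → g * z * g⁻¹ * (g * z * g⁻¹) = 1 := fun z hz => by
    rw [show g * z * g⁻¹ * (g * z * g⁻¹) = g * (z * z) * g⁻¹ by group, hz]; group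
  have hfix : ∀ z : G, z • p = p → g * z * g⁻¹ ∈ MulAction.stabilizer G a := fun z hz => by
    rw [MulAction.mem_stabilizer_iff, ← hg, mul_smul, mul_smul, inv_smul_smul, hz]
  have hxA : x ∈ MulAction.stabilizer G a := hx ▸ hfix _ hp
  have hyA : y ∈ MulAction.stabilizer G a := hy ▸ hfix _ hyp
  have hxx : x * x = 1 := hx ▸ hsq x₀ hx2
  have hyy : y * y = 1 := hy ▸ hsq y₀ hy2
  have hxne : x ≠ 1 := hx ▸ hne x₀ hx1
  have hyne : y ≠ 1 := hy ▸ hne y₀ hy1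
  have hcomm : x * y = y * x := by
    rw [hx, hy]
    calc g * x₀ * g⁻¹ * (g * y₀ * g⁻¹) = g * (x₀ * y₀) * g⁻¹ := by group
      _ = g * (y₀ * x₀) * g⁻¹ := by rw [hxy]
      _ = _ := by group
  have hxy1' : x * y ≠ 1 := by
    intro h
    apply hxy1
    have h' : g * (x₀ * y₀) * g⁻¹ = 1 := by rw [← h, hx, hy]; group
    rw [mul_inv_eq_one, mul_eq_left] at h'
    rw [eq_inv_of_mul_eq_one_left h', inv_eq_of_mul_eq_one_right hy2]
  have hxy2 : x * y * (x * y) = 1 := by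
    rw [show x * y * (x * y) = x * (y * x) * y by group, ← hcomm,
      show x * (x * y) * y = (x * x) * (y * y) by group, hxx, hyy, one_mul]
  have hconjN : ∀ z : G, z * z = 1 → ∀ n ∈ N, z * n * z ∈ N := fun z hz n hn => by
    have := hN.conj_mem n hn z
    rwa [inv_eq_of_mul_eq_one_right hz] at this
  -- centralisers of the three involutions fix `a`
  have hcent : ∀ z : G, z ∈ MulAction.stabilizer G a → z ≠ 1 → z * z = 1 →
      ∀ n : G, z * n = n * z → n ∈ MulAction.stabilizer G a := by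
    intro z hzA hz1 hz2 n hn
    exact fixed_eq_of_involution hS hzA hz1 hz2 (b := n • a)
      (by rw [← mul_smul, hn, mul_smul, MulAction.mem_stabilizer_iff.1 hzA])
  intro n hn
  obtain ⟨c, hc, k, hk, hcx, hkx, rfl⟩ := exists_decomp (t := x) hxx hodd (hconjN x hxx) hn
  refine mul_mem (hcent x hxA hxne hxx c hcx) ?_
  obtain ⟨d, hd, k', hk', hdy, hk'y, rfl⟩ := exists_decomp (t := y) hyy hodd (hconjN y hyy) hk
  have hdA := hcent y hyA hyne hyy d hdy
  refine mul_mem hdA ?_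
  -- `x` inverts `d`, and `x * y` sends `k'` to `d k' d⁻¹`
  have hyx : y * x = x * y := hcomm.symm
  have hd' : y * (x * d * x) = (x * d * x) * y := by
    calc y * (x * d * x) = (y * x) * d * x := by group
      _ = x * (y * d) * x := by rw [hyx]; group
      _ = x * d * (y * x) := by rw [hdy]; group
      _ = _ := by rw [hyx]; group
  have hk'' : y * (x * k' * x) * y = (x * k' * x)⁻¹ := by
    calc y * (x * k' * x) * y = (y * x) * k' * (x * y) := by group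
      _ = x * (y * k' * y) * x := by rw [hcomm]; nth_rewrite 1 [hyx]; group
      _ = x * k'⁻¹ * x := by rw [hk'y]
      _ = _ := by rw [mul_inv_rev, mul_inv_rev, inv_eq_of_mul_eq_one_right hxx]; group
  have hmain : x * d * x * (x * k' * x) = d⁻¹ * (d * k'⁻¹ * d⁻¹) := by
    calc x * d * x * (x * k' * x) = x * d * (x * x) * k' * x := by group
      _ = x * (d * k') * x := by rw [hxx]; group
      _ = (d * k')⁻¹ := hkx
      _ = _ := by group
  have hsecond : y * (d * k'⁻¹ * d⁻¹) * y = (d * k'⁻¹ * d⁻¹)⁻¹ := by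
    calc y * (d * k'⁻¹ * d⁻¹) * y = (y * d) * k'⁻¹ * (y * d)⁻¹ * (y * y) := by group
      _ = (d * y) * k'⁻¹ * (d * y)⁻¹ := by rw [hyy, hdy, mul_one]
      _ = d * (y * k' * y⁻¹)⁻¹ * d⁻¹ := by group
      _ = d * (y * k' * y)⁻¹ * d⁻¹ := by rw [inv_eq_of_mul_eq_one_right hyy]
      _ = _ := by rw [hk'y]; group
  have hdinv : y * d⁻¹ = d⁻¹ * y := (Commute.inv_right (show Commute y d from hdy)).eq
  obtain ⟨hxd, hxk⟩ := decomp_unique (X := N) hyy hodd hd' hdinv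
    (hconjN x hxx k' hk') (mul_mem (mul_mem hd (inv_mem hk')) (inv_mem hd)) hk'' hsecond hmain
  -- `w = d⁻¹ (x y)` centralises `k'`
  set w := d⁻¹ * (x * y) with hw
  have hwk : w * k' = k' * w := by
    have h1 : x * y * k' = d * k' * d⁻¹ * (x * y) := by
      have e : x * (y * k' * y) * x = d * k' * d⁻¹ := by
        rw [hk'y]
        have := congrArg (·⁻¹) hxk
        simp only [mul_inv_rev, inv_eq_of_mul_eq_one_right hxx, inv_inv] at this
        calc x * k'⁻¹ * x = x * (k'⁻¹ * x) := by group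
          _ = d * (k' * d⁻¹) := this
          _ = _ := by group
      calc x * y * k' = x * (y * k' * y) * (x * x) * y⁻¹ := by rw [hxx]; group
        _ = x * (y * k' * y) * x * (x * y⁻¹) := by group
        _ = _ := by rw [e, inv_eq_of_mul_eq_one_right hyy]
    calc w * k' = d⁻¹ * (x * y * k') := by rw [hw]; group
      _ = d⁻¹ * (d * k' * d⁻¹ * (x * y)) := by rw [h1]
      _ = _ := by rw [hw]; group
  have hwA : w ∈ MulAction.stabilizer G a := mul_mem (inv_mem hdA) (mul_mem hxA hyA)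
  have hw2 : w * w = 1 := by
    have hyd : y * d⁻¹ * y = d⁻¹ := by rw [hdinv, mul_assoc, hyy, mul_one]
    have hxd' : x * d⁻¹ * x = d := by
      have := congrArg (·⁻¹) hxd
      simp only [mul_inv_rev, inv_eq_of_mul_eq_one_right hxx, inv_inv] at this
      rw [mul_assoc]; exact this
    calc w * w = d⁻¹ * (x * (y * d⁻¹) * x * y) := by rw [hw]; group
      _ = d⁻¹ * (x * d⁻¹ * (y * x) * y) := by rw [hdinv]; group
      _ = d⁻¹ * (x * d⁻¹ * x * (y * y)) := by rw [hyx]; group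
      _ = 1 := by rw [hxd', hyy]; group
  refine hcent w hwA ?_ hw2 k' hwk
  intro h
  have hdxy : d = x * y := by rwa [hw, inv_mul_eq_one] at h
  apply hxy1'
  rw [← hdxy]
  exact sq_injOn (X := N) hodd hd (one_mem _) (by rw [hdxy, hxy2, one_mul])

end CfsgLib.RankOne
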